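import Cfsg.Agent.Lib.KnownB.SpWeil.RankOne

/-!
# Congruence orbits of symmetric matrices of rank at least two, and the weights they give
-/

set_option autoImplicit false

open Matrix CfsgLib.Classical

noncomputable section

namespace CfsgLib.KnownB.SpWeil

open CfsgLib.MinDeg (symMat siegel siegel_coe siegel_add levi levi_coe levi_siegel congS symMat_eq
  weightSpace mem_weightSpace two_ne_zero_of_odd exists_anisotropic exists_gl_col sym_orbit)

variable {F : Type*} [Field F]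

/-- Not a multiple of the square of a vector. -/
def BigRank {n : ℕ} (B : Matrix (Fin n) (Fin n) F) : Prop :=
  ∀ (c : F) (v : Fin n → F), B ≠ c • vecMulVec v v

theorem BigRank.ne_zero {n : ℕ} {B : Matrix (Fin n) (Fin n) F} (h : BigRank B) : B ≠ 0 := fun e =>
  h 0 0 (by rw [e, zero_smul])

/-- The congruence class. -/
def orb {n : ℕ} (B : Matrix (Fin n) (Fin n) F) : Set (Matrix (Fin n) (Fin n) F) :=
  {M | ∃ A : GL (Fin n) F, M = (A : Matrix (Fin n) (Fin n) F)ᵀ * B * (A : Matrix (Fin n) (Fin n) F)}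

theorem orb_cong {n : ℕ} {B M : Matrix (Fin n) (Fin n) F} (hM : M ∈ orb B) (A : GL (Fin n) F) :
    (A : Matrix (Fin n) (Fin n) F)ᵀ * M * (A : Matrix (Fin n) (Fin n) F) ∈ orb B := by
  obtain ⟨A₀, rfl⟩ := hM
  exact ⟨A₀ * A, by simp [Matrix.transpose_mul, Matrix.mul_assoc]⟩

theorem orb_symm {n : ℕ} {B M : Matrix (Fin n) (Fin n) F} (hB : B.IsSymm) (hM : M ∈ orb B) : M.IsSymm := by
  obtain ⟨A₀, rfl⟩ := hM
  simp [Matrix.IsSymm, Matrix.transpose_mul, hB.eq, Matrix.mul_assoc]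

theorem orb_big {n : ℕ} {B M : Matrix (Fin n) (Fin n) F} (hB : BigRank B) (hM : M ∈ orb B) : BigRank M := by
  obtain ⟨A, rfl⟩ := hM
  intro c v e
  refine hB c (((A⁻¹ : GL (Fin n) F) : Matrix (Fin n) (Fin n) F)ᵀ *ᵥ v) ?_
  have e' := congrArg (fun M => ((A⁻¹ : GL (Fin n) F) : Matrix (Fin n) (Fin n) F)ᵀ * M *
    ((A⁻¹ : GL (Fin n) F) : Matrix (Fin n) (Fin n) F)) e
  rw [Matrix.mul_smul, Matrix.smul_mul, Matrix.mul_vecMulVec, Matrix.vecMulVec_mul, ← Matrix.mulVec_transpose] at e'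
  rw [← e']
  rw [← Matrix.mul_assoc, ← Matrix.mul_assoc, CfsgLib.MinDeg.gl_transpose_mul_inv, Matrix.one_mul,
    Matrix.mul_assoc, Units.mul_inv, Matrix.mul_one]

variable [Fintype F]

/-- An orthogonal pair of anisotropic vectors. -/
theorem exists_pair {n : ℕ} (hodd : Odd (Fintype.card F)) {B : Matrix (Fin n) (Fin n) F} (hB : B.IsSymm)
    (h : BigRank B) : ∃ a b : Fin n → F, a ⬝ᵥ B *ᵥ a ≠ 0 ∧ a ⬝ᵥ B *ᵥ b = 0 ∧ b ⬝ᵥ B *ᵥ b ≠ 0 := by
  classical
  have h2 := two_ne_zero_of_odd hodd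
  obtain ⟨a, ha⟩ := exists_anisotropic h2 hB h.ne_zero
  set c₀ := a ⬝ᵥ B *ᵥ a with hc₀
  have hsymm : ∀ x y : Fin n → F, x ⬝ᵥ B *ᵥ y = y ⬝ᵥ B *ᵥ x := fun x y => by
    rw [dotProduct_comm y (B *ᵥ x), Matrix.dotProduct_mulVec, ← Matrix.mulVec_transpose, hB.eq]
  let v := B *ᵥ a
  let B₁ := B - c₀⁻¹ • vecMulVec v v
  have hB1 : B₁.IsSymm := by
    unfold Matrix.IsSymm
    simp [B₁, hB.eq, Matrix.transpose_vecMulVec]
  obtain ⟨x, hx⟩ := exists_anisotropic h2 hB1 (sub_ne_zero.2 (h _ _))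
  have hval : x ⬝ᵥ B₁ *ᵥ x = x ⬝ᵥ B *ᵥ x - c₀⁻¹ * (a ⬝ᵥ B *ᵥ x) ^ 2 := by
    simp only [B₁, Matrix.sub_mulVec, Matrix.smul_mulVec, Matrix.vecMulVec_mulVec, dotProduct_sub, dotProduct_smul]
    rw [show v ⬝ᵥ x = a ⬝ᵥ B *ᵥ x by rw [dotProduct_comm, hsymm a x],
      show x ⬝ᵥ v = a ⬝ᵥ B *ᵥ x from hsymm x a]
    simp
    left; ring
  refine ⟨a, x - ((a ⬝ᵥ B *ᵥ x) * c₀⁻¹) • a, ha, ?_, ?_⟩
  · rw [Matrix.mulVec_sub, Matrix.mulVec_smul, dotProduct_sub, dotProduct_smul, ← hc₀, smul_eq_mul, mul_assoc,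
      inv_mul_cancel₀ ha, mul_one, sub_self]
  · convert hx using 1
    rw [hval]
    simp only [Matrix.mulVec_sub, Matrix.mulVec_smul, dotProduct_sub, dotProduct_smul, sub_dotProduct,
      smul_dotProduct, ← hc₀, smul_eq_mul, hsymm x a]
    field_simp
    ring

/-- A form of rank at least two has at least `q ^ (n - 2)` zeros. -/
theorem zeros_card {n : ℕ} [DecidableEq F] (hodd : Odd (Fintype.card F)) {B : Matrix (Fin n) (Fin n) F}
    (hB : B.IsSymm) (h : BigRank B) :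
    Fintype.card F ^ (n - 2) ≤ ((Finset.univ : Finset (Fin n → F)).filter fun x => x ⬝ᵥ B *ᵥ x = 0).card := by
  classical
  obtain ⟨a, b, ha, hab, hb⟩ := exists_pair hodd hB h
  have hsymm : ∀ x y : Fin n → F, x ⬝ᵥ B *ᵥ y = y ⬝ᵥ B *ᵥ x := fun x y => by
    rw [dotProduct_comm y (B *ᵥ x), Matrix.dotProduct_mulVec, ← Matrix.mulVec_transpose, hB.eq]
  let L : (Fin n → F) →ₗ[F] (Fin 2 → F) :=
    { toFun := fun y => ![a ⬝ᵥ B *ᵥ y, b ⬝ᵥ B *ᵥ y]
      map_add' := fun y z => by ext i; fin_cases i <;> simp [Matrix.mulVec_add]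
      map_smul' := fun r y => by ext i; fin_cases i <;> simp [Matrix.mulVec_smul] }
  have hdim : n - 2 ≤ Module.finrank F (LinearMap.ker L) := by
    have h1 := LinearMap.finrank_range_add_finrank_ker L
    have h2 := Submodule.finrank_le (LinearMap.range L)
    simp only [Module.finrank_fin_fun] at h1 h2
    omega
  have hK : Fintype.card F ^ (n - 2) ≤ Fintype.card (LinearMap.ker L) := by
    rw [Module.card_eq_pow_finrank (K := F) (V := LinearMap.ker L)]
    exact Nat.pow_le_pow_right Fintype.card_pos hdim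
  have hsol : ∀ y : Fin n → F, ∃ p : F × F,
      (a ⬝ᵥ B *ᵥ a) * p.1 ^ 2 + (b ⬝ᵥ B *ᵥ b) * p.2 ^ 2 = -(y ⬝ᵥ B *ᵥ y) := by
    intro y
    obtain ⟨x, z, hxz⟩ := FiniteField.exists_root_sum_quadratic
      (f := Polynomial.C (a ⬝ᵥ B *ᵥ a) * Polynomial.X ^ 2)
      (g := Polynomial.C (b ⬝ᵥ B *ᵥ b) * Polynomial.X ^ 2 - Polynomial.C (-(y ⬝ᵥ B *ᵥ y)))
      (by rw [Polynomial.degree_C_mul_X_pow 2 ha]; rfl)
      (by rw [Polynomial.degree_sub_eq_left_of_degree_lt] <;>
            rw [Polynomial.degree_C_mul_X_pow 2 hb]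
          · rfl
          · exact Polynomial.degree_C_le.trans_lt (by norm_num))
      (Nat.odd_iff.1 hodd)
    simp only [Polynomial.eval_mul, Polynomial.eval_C, Polynomial.eval_pow, Polynomial.eval_X,
      Polynomial.eval_sub] at hxz
    exact ⟨(x, z), by linear_combination hxz⟩
  choose p hp using hsol
  let f : LinearMap.ker L → (Fin n → F) := fun y => (y : Fin n → F) + (p y).1 • a + (p y).2 • b
  have hker : ∀ y : LinearMap.ker L,
      a ⬝ᵥ B *ᵥ (y : Fin n → F) = 0 ∧ b ⬝ᵥ B *ᵥ (y : Fin n → F) = 0 := fun y => by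
    have h := LinearMap.mem_ker.1 y.2
    exact ⟨congrFun h 0, congrFun h 1⟩
  refine hK.trans (le_trans (le_of_eq ?_) (Finset.card_le_card (s := Finset.univ.image f) fun v hv => ?_))
  · rw [Finset.card_image_of_injective, Finset.card_univ]
    intro y z hyz
    have hy := hker y
    have hz := hker z
    have e1 := congrArg (fun v => a ⬝ᵥ B *ᵥ v) hyz
    have e2 := congrArg (fun v => b ⬝ᵥ B *ᵥ v) hyz
    simp only [f, Matrix.mulVec_add, Matrix.mulVec_smul, dotProduct_add, dotProduct_smul, smul_eq_mul, hy.1,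
      hy.2, hz.1, hz.2, hab, hsymm b a, mul_zero, add_zero, zero_add] at e1 e2
    have h1 := mul_right_cancel₀ ha e1
    have h2 := mul_right_cancel₀ hb e2
    simp only [f, h1, h2, add_left_inj] at hyz
    exact Subtype.ext hyz
  · obtain ⟨y, -, rfl⟩ := Finset.mem_image.1 hv
    have hy := hker y
    simp only [Finset.mem_filter, Finset.mem_univ, true_and, f, Matrix.mulVec_add, Matrix.mulVec_smul,
      dotProduct_add, add_dotProduct, dotProduct_smul, smul_dotProduct, smul_eq_mul, hy.1, hy.2,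
      hsymm (y : Fin n → F) a, hsymm (y : Fin n → F) b, hab, hsymm b a]
    linear_combination hp (y : Fin n → F)

/-- A bordered matrix. -/
def blk {m : ℕ} (c : F) (w : Fin m → F) (N : Matrix (Fin m) (Fin m) F) : Matrix (Fin (m + 1)) (Fin (m + 1)) F :=
  Matrix.of (Fin.cons (Fin.cons c fun q => c * w q) fun p => Fin.cons (c * w p) fun q => N p q + c * (w p * w q))

theorem blk_cong {m : ℕ} (c : F) (N E : Matrix (Fin m) (Fin m) F) :
    (phi m E)ᵀ * blk c 0 N * phi m E = blk c 0 (Eᵀ * N * E) := by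
  ext a b
  refine Fin.cases ?_ (fun a => ?_) a <;> refine Fin.cases ?_ (fun b => ?_) b <;>
    simp [Matrix.mul_apply, Fin.sum_univ_succ, phi, blk, Finset.mul_sum, Finset.sum_mul]

theorem blk_shift {m : ℕ} (c : F) (w : Fin m → F) (N : Matrix (Fin m) (Fin m) F) :
    (1 + vecMulVec (Pi.single 0 1) (Fin.cons 0 w) : Matrix (Fin (m + 1)) (Fin (m + 1)) F)ᵀ * blk c 0 N *
      (1 + vecMulVec (Pi.single 0 1) (Fin.cons 0 w)) = blk c w N := by
  rw [Matrix.transpose_add, Matrix.transpose_one, Matrix.transpose_vecMulVec, Matrix.add_mul, Matrix.one_mul,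
    Matrix.add_mul, Matrix.mul_add, Matrix.mul_add, Matrix.mul_one, Matrix.mul_one, Matrix.mul_vecMulVec,
    Matrix.vecMulVec_mul, Matrix.vecMulVec_mul_vecMulVec]
  ext a b
  refine Fin.cases ?_ (fun a => ?_) a <;> refine Fin.cases ?_ (fun b => ?_) b <;>
    simp [blk, vecMulVec_apply, Matrix.mulVec, dotProduct, Matrix.vecMul, Fin.sum_univ_succ] <;> ring

/-- The shear of the first coordinate. -/
def shear {m : ℕ} (w : Fin m → F) : GL (Fin (m + 1)) F :=
  ⟨1 + vecMulVec (Pi.single 0 1) (Fin.cons 0 w), 1 - vecMulVec (Pi.single 0 1) (Fin.cons 0 w), by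
    rw [Matrix.add_mul, Matrix.one_mul, Matrix.mul_sub, Matrix.mul_one, Matrix.vecMulVec_mul_vecMulVec]
    simp [dotProduct_single], by
    rw [Matrix.sub_mul, Matrix.one_mul, Matrix.mul_add, Matrix.mul_one, Matrix.vecMulVec_mul_vecMulVec]
    simp [dotProduct_single]⟩

theorem shear_val {m : ℕ} (w : Fin m → F) :
    ((shear w : GL (Fin (m + 1)) F) : Matrix (Fin (m + 1)) (Fin (m + 1)) F) =
      1 + vecMulVec (Pi.single 0 1) (Fin.cons 0 w) := rfl

theorem orb_corner {m : ℕ} (hodd : Odd (Fintype.card F)) {B : Matrix (Fin (m + 1)) (Fin (m + 1)) F}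
    (hB : B.IsSymm) (h : BigRank B) {c : F} (hc : c ≠ 0) :
    Fintype.card F ^ m * ((Fintype.card F ^ m - 1) / 2) ≤ {M ∈ orb B | M 0 0 = c}.ncard := by
  classical
  obtain ⟨a, ha⟩ : ∃ a, a ⬝ᵥ B *ᵥ a = c := by
    rcases CfsgLib.MinDeg.rank_one_or_surj hodd hB h.ne_zero with ⟨d, v, -, -, e⟩ | hs
    · exact absurd e (h d v)
    · exact hs c hc
  have ha0 : a ≠ 0 := fun e => hc (by rw [← ha, e]; simp)
  obtain ⟨A, hA⟩ := exists_gl_col (F := F) 0 ha0
  set B' := (A : Matrix (Fin (m + 1)) (Fin (m + 1)) F)ᵀ * B * (A : Matrix (Fin (m + 1)) (Fin (m + 1)) F) with hB'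
  have hB'o : B' ∈ orb B := ⟨A, rfl⟩
  have hB's := orb_symm hB hB'o
  have h00 : B' 0 0 = c := by
    have : B' 0 0 = Pi.single 0 1 ⬝ᵥ (B' *ᵥ Pi.single 0 1) := by simp [single_dotProduct]
    rw [this, hB', ← Matrix.mulVec_mulVec, ← Matrix.mulVec_mulVec, hA, Matrix.dotProduct_mulVec,
      Matrix.vecMul_transpose, hA, ha]
  let t : Fin m → F := fun p => B' 0 p.succ / c
  let N0 : Matrix (Fin m) (Fin m) F := Matrix.of fun p q => B' p.succ q.succ - c * (t p * t q)
  have hblk : B' = blk c t N0 := by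
    ext i j
    refine Fin.cases ?_ (fun i => ?_) i <;> refine Fin.cases ?_ (fun j => ?_) j <;>
      simp [blk, t, N0, h00, mul_div_cancel₀ _ hc, hB's.apply 0]
  have hD : blk c 0 N0 ∈ orb B := by
    have := orb_cong hB'o (shear t)⁻¹
    convert this using 1
    have e : B' = ((shear t : GL (Fin (m + 1)) F) : Matrix (Fin (m + 1)) (Fin (m + 1)) F)ᵀ * blk c 0 N0 *
        ((shear t : GL (Fin (m + 1)) F) : Matrix (Fin (m + 1)) (Fin (m + 1)) F) := by
      rw [hblk, shear_val]; exact (blk_shift c t N0).symm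
    rw [e, ← Matrix.mul_assoc, ← Matrix.mul_assoc, CfsgLib.MinDeg.gl_transpose_mul_inv, Matrix.one_mul,
      Matrix.mul_assoc, Units.mul_inv, Matrix.mul_one]
  have hN0s : N0.IsSymm := by
    ext p q
    simp [N0, hB's.apply p.succ q.succ, mul_comm (t p)]
  have hN0 : N0 ≠ 0 := fun e => by
    refine orb_big h hD c (Pi.single 0 1) ?_
    ext i j
    refine Fin.cases ?_ (fun i => ?_) i <;> refine Fin.cases ?_ (fun j => ?_) j <;> simp [blk, e, vecMulVec_apply]
  obtain ⟨O, hO, hOA⟩ := sym_orbit hodd hN0s hN0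
  have hle := Set.ncard_le_ncard_of_injOn (s := (Set.univ : Set (Fin m → F)) ×ˢ O)
    (t := {M ∈ orb B | M 0 0 = c}) (fun p => blk c p.1 p.2) ?_ ?_ (Set.toFinite _)
  · rw [Set.ncard_prod, Set.ncard_univ, Nat.card_eq_fintype_card, Fintype.card_pi_const] at hle
    exact (Nat.mul_le_mul_left _ hO).trans hle
  · rintro ⟨w, N⟩ ⟨-, hN⟩
    obtain ⟨E, rfl⟩ := hOA N hN
    refine ⟨?_, rfl⟩
    show blk c w ((E : Matrix (Fin m) (Fin m) F)ᵀ * N0 * E) ∈ orb B
    rw [← blk_shift, ← blk_cong]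
    have hh := orb_cong (orb_cong hD (Units.map (phi m) E)) (shear w)
    rw [shear_val, Units.coe_map] at hh
    exact hh
  · rintro ⟨w, N⟩ - ⟨w', N'⟩ - e
    have hw : w = w' := funext fun p => by
      have := congrFun (congrFun e 0) p.succ
      simpa [blk, hc] using this
    subst hw
    refine Prod.ext rfl ?_
    ext p q
    have := congrFun (congrFun e p.succ) q.succ
    simpa [blk] using this

/-- The class of a form of rank at least two. -/
theorem orb_card {m : ℕ} (hm : 1 ≤ m) (hodd : Odd (Fintype.card F))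
    {B : Matrix (Fin (m + 1)) (Fin (m + 1)) F} (hB : B.IsSymm) (h : BigRank B) :
    (Fintype.card F ^ (m + 1) - 1) * (Fintype.card F ^ (m + 1) - Fintype.card F) ≤
      2 * (Fintype.card F + 1) * (orb B).ncard := by
  classical
  set q := Fintype.card F with hq
  let O : Finset (Matrix (Fin (m + 1)) (Fin (m + 1)) F) := (orb B).toFinset
  have hO : (orb B).ncard = O.card := Set.ncard_eq_toFinset_card' _
  have hmem : ∀ M, M ∈ O ↔ M ∈ orb B := fun M => Set.mem_toFinset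
  let X := (O.filter fun M => M 0 0 ≠ 0).card
  have hX : (q - 1) * (q ^ m * ((q ^ m - 1) / 2)) ≤ X := by
    have e : X = ∑ c ∈ (Finset.univ : Finset F).erase 0, ((O.filter fun M => M 0 0 ≠ 0).filter fun M => M 0 0 = c).card :=
      Finset.card_eq_sum_card_fiberwise fun M hM => by simpa using (Finset.mem_filter.1 hM).2
    rw [e]
    have hfib : ∀ c ∈ (Finset.univ : Finset F).erase 0, q ^ m * ((q ^ m - 1) / 2) ≤
        ((O.filter fun M => M 0 0 ≠ 0).filter fun M => M 0 0 = c).card := by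
      intro c hc
      refine (orb_corner hodd hB h (Finset.ne_of_mem_erase hc)).trans (le_of_eq ?_)
      rw [Set.ncard_eq_toFinset_card']
      congr 1
      ext M
      simp only [Set.mem_toFinset, Set.mem_setOf_eq, Finset.mem_filter, hmem]
      exact ⟨fun hM => ⟨⟨hM.1, hM.2 ▸ Finset.ne_of_mem_erase hc⟩, hM.2⟩, fun hM => ⟨hM.1.1, hM.2⟩⟩
    have hsum := Finset.card_nsmul_le_sum _ _ _ hfib
    rwa [Finset.card_erase_of_mem (Finset.mem_univ _), Finset.card_univ, smul_eq_mul] at hsum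
  -- counting the pairs of a matrix and an anisotropic vector
  let nz : Finset (Fin (m + 1) → F) := Finset.univ.erase 0
  have hnz : nz.card = q ^ (m + 1) - 1 := by
    simp [nz, Finset.card_erase_of_mem, hq]
  have hrow : ∀ a ∈ nz, X ≤ (O.filter fun M => a ⬝ᵥ M *ᵥ a ≠ 0).card := by
    intro a ha
    obtain ⟨A, hA⟩ := exists_gl_col (F := F) 0 (Finset.ne_of_mem_erase ha)
    refine Finset.card_le_card_of_injOn
      (fun M => ((A⁻¹ : GL (Fin (m + 1)) F) : Matrix _ _ F)ᵀ * M * ((A⁻¹ : GL (Fin (m + 1)) F) : Matrix _ _ F))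
      (fun M hM => ?_) fun M _ M' _ e => ?_
    · simp only [Finset.coe_filter, Set.mem_setOf_eq, hmem] at hM ⊢
      refine ⟨orb_cong hM.1 _, ?_⟩
      have key : ((A⁻¹ : GL (Fin (m + 1)) F) : Matrix (Fin (m + 1)) (Fin (m + 1)) F) *ᵥ a = Pi.single 0 1 := by
        rw [← hA, Matrix.mulVec_mulVec, Units.inv_mul, Matrix.one_mulVec]
      rw [← Matrix.mulVec_mulVec, ← Matrix.mulVec_mulVec, key, Matrix.dotProduct_mulVec, Matrix.vecMul_transpose,
        key]
      simpa [single_dotProduct] using hM.2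
    · have h1 := congrArg (fun M => (A : Matrix _ _ F)ᵀ * M * (A : Matrix _ _ F)) e
      simp only [← Matrix.mul_assoc] at h1
      rw [CfsgLib.MinDeg.gl_inv_mul_transpose, Matrix.one_mul, Matrix.one_mul, Matrix.mul_assoc, Units.inv_mul,
        Matrix.mul_one, Matrix.mul_assoc, Units.inv_mul, Matrix.mul_one] at h1
      exact h1
  have hcol : ∀ M ∈ O, (nz.filter fun a => a ⬝ᵥ M *ᵥ a ≠ 0).card ≤ q ^ (m + 1) - q ^ (m - 1) := by
    intro M hM
    have h1 := zeros_card hodd (orb_symm hB ((hmem M).1 hM)) (orb_big h ((hmem M).1 hM))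
    have h2 := Finset.card_filter_add_card_filter_not
      (s := (Finset.univ : Finset (Fin (m + 1) → F))) (fun x => x ⬝ᵥ M *ᵥ x = 0)
    rw [Finset.card_univ, Fintype.card_pi_const, ← hq] at h2
    have h3 : (nz.filter fun a => a ⬝ᵥ M *ᵥ a ≠ 0).card ≤
        ((Finset.univ : Finset (Fin (m + 1) → F)).filter fun x => ¬x ⬝ᵥ M *ᵥ x = 0).card :=
      Finset.card_le_card (Finset.filter_subset_filter _ (Finset.subset_univ _))
    rw [show m + 1 - 2 = m - 1 by omega, ← hq] at h1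
    omega
  have hdc : ∑ a ∈ nz, (O.filter fun M => a ⬝ᵥ M *ᵥ a ≠ 0).card =
      ∑ M ∈ O, (nz.filter fun a => a ⬝ᵥ M *ᵥ a ≠ 0).card := by
    simp only [Finset.card_filter]
    exact Finset.sum_comm
  have h1 := Finset.card_nsmul_le_sum nz _ _ hrow
  have h2 := Finset.sum_le_card_nsmul O _ _ hcol
  rw [smul_eq_mul] at h1 h2
  rw [hdc] at h1
  rw [hnz] at h1
  have h3 := (Nat.mul_le_mul_left (q ^ (m + 1) - 1) hX).trans (h1.trans h2)
  rw [hO]
  obtain ⟨r, hr⟩ : ∃ r, q ^ m = 2 * r + 1 := Nat.odd_iff.2 (Nat.odd_iff.1 (hodd.pow)) 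
  obtain ⟨j, rfl⟩ : ∃ j, m = j + 1 := ⟨m - 1, by omega⟩
  have hq1 : 1 < q := Fintype.one_lt_card
  obtain ⟨p, hp⟩ : ∃ p, q = p + 2 := ⟨q - 2, by omega⟩
  rw [hr, show (2 * r + 1 - 1) / 2 = r by omega, show j + 1 - 1 = j from rfl] at h3
  have e1 : q ^ (j + 1 + 1) - q ^ j = q ^ j * ((p + 1) * (q + 1)) := by
    apply Nat.sub_eq_of_eq_add
    rw [hp]; ring
  have e2 : q ^ (j + 1 + 1) - q = q * (2 * r) := by
    apply Nat.sub_eq_of_eq_add
    rw [pow_succ, hr]; ring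
  rw [e1, show q - 1 = p + 1 by omega] at h3
  rw [pow_succ q j] at hr
  rw [e2]
  generalize q ^ (j + 1 + 1) - 1 = Z at *
  have hpos : 0 < q ^ j * (p + 1) := Nat.mul_pos (Nat.pow_pos (by omega)) (by omega)
  refine Nat.le_of_mul_le_mul_left ?_ hpos
  calc q ^ j * (p + 1) * (Z * (q * (2 * r))) = 2 * (Z * ((p + 1) * ((q ^ j * q) * r))) := by ring
    _ ≤ 2 * (O.card * (q ^ j * ((p + 1) * (q + 1)))) := by
      rw [hr]
      exact Nat.mul_le_mul_left 2 h3
    _ = q ^ j * (p + 1) * (2 * (q + 1) * O.card) := by ring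

variable {V : Type*} [AddCommGroup V] [Module ℂ V] [FiniteDimensional ℂ V]

/-- A weight of rank at least two forces the degree of the bound. -/
theorem degree_of_big {m : ℕ} (hm : 1 ≤ m) (hodd : Odd (Fintype.card F)) {ψ : AddChar F ℂ} (hψ : ψ ≠ 0)
    (ρ : Representation ℂ (SpG (m + 1) F) V) (hR : ¬RankOne ρ ψ) :
    (Fintype.card F ^ (m + 1) - 1) * (Fintype.card F ^ (m + 1) - Fintype.card F) ≤
      2 * (Fintype.card F + 1) * Module.finrank ℂ V := by
  classical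
  obtain ⟨χ, hne, hbig⟩ : ∃ χ, weightSpace ρ siegel χ ≠ ⊥ ∧
      ∀ (c : F) (x : Fin (m + 1) → F), χ ≠ chi ψ (rk1 c x : Matrix (Fin (m + 1)) (Fin (m + 1)) F) := by
    by_contra hcon
    refine hR fun χ hne => ?_
    by_contra h2
    push Not at h2
    exact hcon ⟨χ, hne, h2⟩
  obtain ⟨B, hB⟩ := CfsgLib.MinDeg.exists_sym_char hodd hψ χ
  have hχ : χ = chi ψ (B : Matrix (Fin (m + 1)) (Fin (m + 1)) F) := DFunLike.ext _ _ hB
  have hBig : BigRank (B : Matrix (Fin (m + 1)) (Fin (m + 1)) F) := fun c v e =>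
    hbig c v (by rw [hχ, e]; rfl)
  refine (orb_card hm hodd B.2 hBig).trans (Nat.mul_le_mul_left _ ?_)
  let S : Set (AddChar (symMat F (m + 1)) ℂ) :=
    (fun M => chi ψ M) '' orb (B : Matrix (Fin (m + 1)) (Fin (m + 1)) F)
  refine le_trans (le_of_eq ?_) (CfsgLib.MinDeg.card_le_finrank_of_weights ρ siegel S fun χ' hχ' => ?_)
  · refine (Set.InjOn.ncard_image fun M hM M' hM' e => ?_).symm
    exact congrArg Subtype.val
      (chi_inj hodd hψ (a₁ := ⟨M, orb_symm B.2 hM⟩) (a₂ := ⟨M', orb_symm B.2 hM'⟩) e)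
  · obtain ⟨M, ⟨A, rfl⟩, rfl⟩ := hχ'
    obtain ⟨v, hv, hv0⟩ := Submodule.exists_mem_ne_zero_of_ne_bot hne
    intro hbot
    refine hv0 ?_
    have hmem : ρ (levi A⁻¹) v ∈ weightSpace ρ siegel
        (chi ψ ((A : Matrix (Fin (m + 1)) (Fin (m + 1)) F)ᵀ * (B : Matrix (Fin (m + 1)) (Fin (m + 1)) F) * A)) := by
      intro S
      have e := levi_siegel A⁻¹ (congS (A : Matrix (Fin (m + 1)) (Fin (m + 1)) F) S)
      have e' : congS ((A⁻¹ : GL (Fin (m + 1)) F) : Matrix (Fin (m + 1)) (Fin (m + 1)) F)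
          (congS (A : Matrix (Fin (m + 1)) (Fin (m + 1)) F) S) = S := by
        refine Subtype.ext ?_
        show ((A⁻¹ : GL (Fin (m + 1)) F) : Matrix (Fin (m + 1)) (Fin (m + 1)) F) * ((A : Matrix _ _ F) *
          (S : Matrix _ _ F) * (A : Matrix _ _ F)ᵀ) * ((A⁻¹ : GL (Fin (m + 1)) F) : Matrix _ _ F)ᵀ = _
        rw [Matrix.mul_assoc, Matrix.mul_assoc, Matrix.mul_assoc, CfsgLib.MinDeg.gl_inv_mul_transpose,
          Matrix.mul_one, ← Matrix.mul_assoc, Units.inv_mul, Matrix.one_mul]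
      rw [e'] at e
      rw [act_mul, ← e, ← act_mul, mem_weightSpace.1 hv, map_smul, hB]
      congr 1
      show ψ _ = ψ _
      congr 1
      simp only [congS]
      rw [← Matrix.mul_assoc, Matrix.trace_mul_comm]
      simp only [Matrix.mul_assoc]
      rfl
    rw [hbot, Submodule.mem_bot] at hmem
    have := congrArg (ρ (levi A)) hmem
    rwa [act_mul, ← levi_mul, mul_inv_cancel, levi_one, map_one, Module.End.one_apply, map_zero] at this

end CfsgLib.KnownB.SpWeil
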