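import Cfsg.Agent.Lib.KnownB.SpWeil.Generated
import Cfsg.Agent.Lib.KnownB.SpWeil.Orbit
import Cfsg.Agent.Lib.CharDeep.IrrTools
import Mathlib.NumberTheory.LegendreSymbol.QuadraticChar.Basic

/-!
# Irreducible representations all of whose weights have rank at most one

Such a representation is determined by one square class and the sign of the centre.
-/

set_option autoImplicit false

open Matrix CfsgLib.Classical

noncomputable section

namespace CfsgLib.KnownB.SpWeil

open CfsgLib.MinDeg (symMat siegel siegel_coe siegel_add levi levi_coe levi_siegel congS symMat_eq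
  weightSpace mem_weightSpace two_ne_zero_of_odd exists_gl_col gl_inv_mul_transpose gl_transpose_mul_inv)

variable {F : Type*} [Field F] [Fintype F]

theorem ringChar_ne_two (hodd : Odd (Fintype.card F)) : ringChar F ≠ 2 := fun h =>
  two_ne_zero_of_odd hodd (by
    have := CharP.cast_eq_zero F (ringChar F)
    rw [h] at this
    simpa using this)

theorem exists_nu (hodd : Odd (Fintype.card F)) : ∃ ν : F, ν ≠ 0 ∧ ¬IsSquare ν := by
  obtain ⟨ν, hν⟩ := FiniteField.exists_nonsquare (ringChar_ne_two hodd)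
  exact ⟨ν, fun h => hν (h ▸ IsSquare.zero), hν⟩

theorem sq_class {ν : F} (hν0 : ν ≠ 0) (hν : ¬IsSquare ν) {c : F} (hc : c ≠ 0) :
    ∃ t : F, t ≠ 0 ∧ (c = 1 * t ^ 2 ∨ c = ν * t ^ 2) := by
  classical
  by_cases h : IsSquare c
  · obtain ⟨t, rfl⟩ := h
    exact ⟨t, fun e => hc (by simp [e]), Or.inl (by ring)⟩
  · have h1 : IsSquare (c * ν) := by
      rw [← quadraticChar_one_iff_isSquare (mul_ne_zero hc hν0), map_mul,
        quadraticChar_neg_one_iff_not_isSquare.2 h, quadraticChar_neg_one_iff_not_isSquare.2 hν]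
      ring
    obtain ⟨s, hs⟩ := h1
    refine ⟨s / ν, div_ne_zero (fun e => mul_ne_zero hc hν0 (by rw [hs, e, mul_zero])) hν0, Or.inr ?_⟩
    field_simp
    linear_combination hs

/-- The transpose of an invertible matrix. -/
def glT {n : ℕ} (B : GL (Fin n) F) : GL (Fin n) F :=
  ⟨(B : Matrix (Fin n) (Fin n) F)ᵀ, ((B⁻¹ : GL (Fin n) F) : Matrix (Fin n) (Fin n) F)ᵀ,
    gl_inv_mul_transpose B, gl_transpose_mul_inv B⟩

variable {k : ℕ} {V : Type*} [AddCommGroup V] [Module ℂ V]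
variable {ρ : Representation ℂ (SpG (k + 2) F) V} {ψ : AddChar F ℂ}

theorem move {c : F} {x : Fin (k + 2) → F} (hx : x ≠ 0) (h : W ρ ψ c x ≠ ⊥) :
    W ρ ψ c (Pi.single (0 : Fin (k + 2)) (1 : F)) ≠ ⊥ := by
  classical
  obtain ⟨v, hv, hv0⟩ := Submodule.exists_mem_ne_zero_of_ne_bot h
  obtain ⟨B, hB⟩ := exists_gl_col (F := F) (0 : Fin (k + 2)) hx
  intro hbot
  refine hv0 ?_
  have h1 := levi_wt (glT B) hv
  have e : (((glT B)⁻¹ : GL (Fin (k + 2)) F) : Matrix (Fin (k + 2)) (Fin (k + 2)) F)ᵀ *ᵥ x =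
      Pi.single 0 1 := by
    show (((B⁻¹ : GL (Fin (k + 2)) F) : Matrix (Fin (k + 2)) (Fin (k + 2)) F)ᵀ)ᵀ *ᵥ x = _
    rw [Matrix.transpose_transpose, ← hB, Matrix.mulVec_mulVec, Units.inv_mul, Matrix.one_mulVec]
  rw [e, hbot, Submodule.mem_bot] at h1
  have := congrArg (ρ (levi (glT B))⁻¹) h1
  rwa [act_mul, inv_mul_cancel, map_one, Module.End.one_apply, map_zero] at this

theorem move_sq {c t : F} (ht : t ≠ 0) (h : W ρ ψ (c * t ^ 2) (Pi.single (0 : Fin (k + 2)) (1 : F)) ≠ ⊥) :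
    W ρ ψ c (Pi.single (0 : Fin (k + 2)) (1 : F)) ≠ ⊥ := by
  refine move (x := t • Pi.single (0 : Fin (k + 2)) (1 : F)) (fun e => ht ?_) ?_
  · simpa using congrFun e 0
  · unfold W at h ⊢
    rwa [rk1_smul]

/-- One of the two classes occurs. -/
theorem exists_class [FiniteDimensional ℂ V] [ρ.IsIrreducible] (hodd : Odd (Fintype.card F))
    (hR : RankOne ρ ψ) (hd : 2 ≤ Module.finrank ℂ V) {ν : F} (hν0 : ν ≠ 0) (hν : ¬IsSquare ν) :
    W ρ ψ 1 (Pi.single (0 : Fin (k + 2)) (1 : F)) ≠ ⊥ ∨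
      W ρ ψ ν (Pi.single (0 : Fin (k + 2)) (1 : F)) ≠ ⊥ := by
  classical
  by_contra hcon
  push Not at hcon
  have hz : ∀ (S : symMat F (k + 2)) (v : V), ρ (siegel S) v = v := by
    intro S v
    cases nonempty_fintype (AddChar (symMat F (k + 2)) ℂ)
    conv_rhs => rw [← sum_pr (ρ := ρ) v]
    conv_lhs => rw [← sum_pr (ρ := ρ) v]
    rw [finsum_eq_sum_of_fintype, map_sum]
    refine Finset.sum_congr rfl fun χ _ => ?_
    by_cases h0 : pr ρ χ v = 0
    · rw [h0, map_zero]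
    obtain ⟨c, x, rfl⟩ := hR χ fun e => h0 (by
      have := pr_mem (ρ := ρ) χ v
      rwa [e, Submodule.mem_bot] at this)
    by_cases hcx : c = 0 ∨ x = 0
    · rw [mem_weightSpace.1 (pr_mem _ _), chi_apply]
      have e : (rk1 c x : Matrix (Fin (k + 2)) (Fin (k + 2)) F) = 0 := by
        ext r s
        rcases hcx with rfl | rfl <;> simp [rk1_apply]
      simp [e]
    rw [not_or] at hcx
    exfalso
    have hne : W ρ ψ c x ≠ ⊥ := fun e => h0 (by
      have := pr_mem (ρ := ρ) (chi ψ (rk1 c x : Matrix (Fin (k + 2)) (Fin (k + 2)) F)) v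
      unfold W at e
      rwa [e, Submodule.mem_bot] at this)
    obtain ⟨t, ht, rfl | rfl⟩ := sq_class hν0 hν hcx.1
    · exact move_sq ht (move hcx.2 hne) hcon.1
    · exact move_sq ht (move hcx.2 hne) hcon.2
  have hker : (ρ : SpG (k + 2) F →* Module.End ℂ V).ker = ⊤ :=
    CfsgLib.MinDeg.ker_eq_top_of_siegel (F := F) (n := k + 2) ρ (by omega)
      fun S => LinearMap.ext (hz S)
  have hone : ∀ g, ρ g = 1 := fun g => MonoidHom.mem_ker.1 (hker ▸ Subgroup.mem_top g)
  have := CharDeep.IrrTools.apply_ne_zero_of_isIrreducible ρ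
  obtain ⟨v, hv⟩ := exists_ne (0 : V)
  rcases CharDeep.IrrTools.eq_bot_or_top_of_invariant ρ (ℂ ∙ v) (fun g u hu => by
    rwa [hone, Module.End.one_apply]) with h | h
  · exact hv (Submodule.span_singleton_eq_bot.1 h)
  · have h2 := finrank_span_singleton (K := ℂ) hv
    rw [h, finrank_top] at h2
    omega

theorem centre_comm (g : SpG (k + 2) F) :
    levi (dg fun _ => -1) * g = g * (levi (dg fun _ => -1) : SpG (k + 2) F) := by
  have e : ((levi (dg fun _ => -1) : SpG (k + 2) F) :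
      Matrix (Fin (k + 2) ⊕ Fin (k + 2)) (Fin (k + 2) ⊕ Fin (k + 2)) F) = -1 := by
    rw [levi_coe, dg_coe, dg_inv_coe, ← Matrix.fromBlocks_one, Matrix.fromBlocks_neg]
    congr 1 <;> ext i j <;> by_cases h : i = j <;> simp [h, Ne.symm]
  refine Subtype.ext ?_
  rw [Submonoid.coe_mul, Submonoid.coe_mul, e, neg_one_mul, mul_neg_one]

/-- The centre acts by a sign. -/
theorem centre_sign [FiniteDimensional ℂ V] [ρ.IsIrreducible] :
    ∃ ε : ℂ, (ε = 1 ∨ ε = -1) ∧ ∀ v, ρ (levi (dg fun _ => -1)) v = ε • v := by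
  obtain ⟨ε, hε⟩ := CharDeep.IrrTools.exists_smul_of_commute ρ (ρ (levi (dg fun _ => -1)))
    fun g => by rw [← map_mul, ← map_mul, centre_comm]
  have hv : ∀ v, ρ (levi (dg fun _ => -1)) v = ε • v := fun v => by rw [hε]; rfl
  refine ⟨ε, ?_, hv⟩
  have := CharDeep.IrrTools.apply_ne_zero_of_isIrreducible ρ
  obtain ⟨v, hv0⟩ := exists_ne (0 : V)
  have h1 : ρ (levi (dg fun _ => -1)) (ρ (levi (dg fun _ => -1)) v) = v := by
    rw [act_mul, ← levi_mul, dg_mul, show ((fun _ => -1) * fun _ => -1 : Fin (k + 2) → Fˣ) = 1 from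
      funext fun _ => by simp, dg_one, levi_one, map_one, Module.End.one_apply]
  rw [hv, hv, smul_smul] at h1
  exact mul_self_eq_one_iff.1 (smul_left_injective ℂ hv0 (h1.trans (one_smul ℂ v).symm))

variable {V' : Type*} [AddCommGroup V'] [Module ℂ V'] {ρ' : Representation ℂ (SpG (k + 2) F) V'}

theorem prod_wt {χ : AddChar (symMat F (k + 2)) ℂ} {p : V × V'} :
    p ∈ weightSpace (ρ.prod ρ') siegel χ ↔
      p.1 ∈ weightSpace ρ siegel χ ∧ p.2 ∈ weightSpace ρ' siegel χ := by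
  simp only [mem_weightSpace, Prod.ext_iff, forall_and]
  rfl

/-- The same class and the same sign give the same character. -/
theorem same_char [FiniteDimensional ℂ V] [FiniteDimensional ℂ V'] [ρ.IsIrreducible] [ρ'.IsIrreducible]
    (hodd : Odd (Fintype.card F)) (hψ : ψ ≠ 0) (hR : RankOne ρ ψ) (hR' : RankOne ρ' ψ)
    {ε : ℂ} (hε : ∀ v, ρ (levi (dg fun _ => -1)) v = ε • v)
    (hε' : ∀ v, ρ' (levi (dg fun _ => -1)) v = ε • v) {c : F} (hc : c ≠ 0)
    (h : W ρ ψ c (Pi.single (0 : Fin (k + 2)) (1 : F)) ≠ ⊥)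
    (h' : W ρ' ψ c (Pi.single (0 : Fin (k + 2)) (1 : F)) ≠ ⊥) : ρ.character = ρ'.character := by
  obtain ⟨w₁, hw₁, hw₁0⟩ := Submodule.exists_mem_ne_zero_of_ne_bot h
  obtain ⟨w₂, hw₂, hw₂0⟩ := Submodule.exists_mem_ne_zero_of_ne_bot h'
  let π := ρ.prod ρ'
  have hRπ : RankOne π ψ := fun χ hχ => by
    obtain ⟨p, hp, hp0⟩ := Submodule.exists_mem_ne_zero_of_ne_bot hχ
    rw [prod_wt] at hp
    by_cases h1 : p.1 = 0
    · refine hR' χ fun e => hp0 (Prod.ext h1 ?_)
      rw [e] at hp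
      exact hp.2
    · refine hR χ fun e => h1 ?_
      rw [e] at hp
      exact hp.1
  obtain ⟨U, hU, hwU, hline, -⟩ := exists_invariant (ρ := π) (w := (w₁, w₂)) (prod_wt.2 ⟨hw₁, hw₂⟩)
    hodd hψ hRπ ⟨ε, fun v => Prod.ext (hε v.1) (hε' v.2)⟩ hc
  -- the projections of `U` are bijective
  have hs1 : U.map (LinearMap.fst ℂ V V') = ⊤ :=
    ((CharDeep.IrrTools.eq_bot_or_top_of_invariant ρ _ fun g u hu => by
      obtain ⟨p, hp, rfl⟩ := Submodule.mem_map.1 hu
      exact Submodule.mem_map.2 ⟨π g p, hU g p hp, rfl⟩).resolve_left fun e => hw₁0 (by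
        have := Submodule.mem_map_of_mem (f := LinearMap.fst ℂ V V') hwU
        rw [e] at this
        exact this))
  have hs2 : U.map (LinearMap.snd ℂ V V') = ⊤ :=
    ((CharDeep.IrrTools.eq_bot_or_top_of_invariant ρ' _ fun g u hu => by
      obtain ⟨p, hp, rfl⟩ := Submodule.mem_map.1 hu
      exact Submodule.mem_map.2 ⟨π g p, hU g p hp, rfl⟩).resolve_left fun e => hw₂0 (by
        have := Submodule.mem_map_of_mem (f := LinearMap.snd ℂ V V') hwU
        rw [e] at this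
        exact this))
  have hk2 : U.comap (LinearMap.inr ℂ V V') = ⊥ :=
    (CharDeep.IrrTools.eq_bot_or_top_of_invariant ρ' _ fun g u hu => by
      have := hU g _ (Submodule.mem_comap.1 hu)
      simpa [π, Submodule.mem_comap] using this).resolve_right fun e => by
      have hm : LinearMap.inr ℂ V V' w₂ ∈ U := by
        rw [← Submodule.mem_comap, e]; exact Submodule.mem_top
      obtain ⟨z, hz⟩ := hline _ hm (prod_wt.2 ⟨Submodule.zero_mem _, hw₂⟩)
      have hz1 : (0 : V) = z • w₁ := (congrArg Prod.fst hz).symm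
      have hz2 : w₂ = z • w₂ := (congrArg Prod.snd hz).symm
      rcases smul_eq_zero.1 hz1.symm with hz0 | hz0
      · exact hw₂0 (by rw [hz2, hz0, zero_smul])
      · exact hw₁0 hz0
  have hk1 : U.comap (LinearMap.inl ℂ V V') = ⊥ :=
    (CharDeep.IrrTools.eq_bot_or_top_of_invariant ρ _ fun g u hu => by
      have := hU g _ (Submodule.mem_comap.1 hu)
      simpa [π, Submodule.mem_comap] using this).resolve_right fun e => by
      have hm : LinearMap.inl ℂ V V' w₁ ∈ U := by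
        rw [← Submodule.mem_comap, e]; exact Submodule.mem_top
      obtain ⟨z, hz⟩ := hline _ hm (prod_wt.2 ⟨hw₁, Submodule.zero_mem _⟩)
      have hz1 : w₁ = z • w₁ := (congrArg Prod.fst hz).symm
      have hz2 : (0 : V') = z • w₂ := (congrArg Prod.snd hz).symm
      rcases smul_eq_zero.1 hz2.symm with hz0 | hz0
      · exact hw₁0 (by rw [hz1, hz0, zero_smul])
      · exact hw₂0 hz0
  let p₁ : U →ₗ[ℂ] V := (LinearMap.fst ℂ V V').comp U.subtype
  let p₂ : U →ₗ[ℂ] V' := (LinearMap.snd ℂ V V').comp U.subtype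
  have hb1 : Function.Bijective p₁ := by
    refine ⟨(injective_iff_map_eq_zero p₁).2 fun u hu => Subtype.ext (Prod.ext hu ?_), fun v => ?_⟩
    · have : (u : V × V').2 ∈ U.comap (LinearMap.inr ℂ V V') := by
        show ((0 : V), (u : V × V').2) ∈ U
        rw [← hu]
        exact u.2
      rwa [hk2, Submodule.mem_bot] at this
    · obtain ⟨p, hp, e⟩ := Submodule.mem_map.1 (hs1 ▸ Submodule.mem_top : v ∈ U.map (LinearMap.fst ℂ V V'))
      exact ⟨⟨p, hp⟩, e⟩
  have hb2 : Function.Bijective p₂ := by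
    refine ⟨(injective_iff_map_eq_zero p₂).2 fun u hu => Subtype.ext (Prod.ext ?_ hu), fun v => ?_⟩
    · have : (u : V × V').1 ∈ U.comap (LinearMap.inl ℂ V V') := by
        show ((u : V × V').1, (0 : V')) ∈ U
        rw [← hu]
        exact u.2
      rwa [hk1, Submodule.mem_bot] at this
    · obtain ⟨p, hp, e⟩ := Submodule.mem_map.1 (hs2 ▸ Submodule.mem_top : v ∈ U.map (LinearMap.snd ℂ V V'))
      exact ⟨⟨p, hp⟩, e⟩
  let e : V ≃ₗ[ℂ] V' := (LinearEquiv.ofBijective p₁ hb1).symm.trans (LinearEquiv.ofBijective p₂ hb2)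
  have he : ∀ g v, e (ρ g v) = ρ' g (e v) := fun g v => by
    obtain ⟨u, rfl⟩ := hb1.2 v
    have h1 : ρ g (p₁ u) = p₁ ⟨π g u, hU g u u.2⟩ := rfl
    rw [h1]
    show p₂ ((LinearEquiv.ofBijective p₁ hb1).symm (p₁ _)) = ρ' g (p₂ ((LinearEquiv.ofBijective p₁ hb1).symm (p₁ u)))
    rw [LinearEquiv.ofBijective_symm_apply_apply, LinearEquiv.ofBijective_symm_apply_apply]
    rfl
  funext g
  have h2 : e.conj (ρ g) = ρ' g := LinearMap.ext fun v => by
    rw [LinearEquiv.conj_apply]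
    simp [he]
  show LinearMap.trace ℂ V (ρ g) = LinearMap.trace ℂ V' (ρ' g)
  rw [← h2, LinearMap.trace_conj']

end CfsgLib.KnownB.SpWeil
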