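import Cfsg.Agent.Lib.KnownB.SpWeil.Parity
import Cfsg.Prelude.Def_Characters

/-!
# The small degree irreducible characters of the symplectic group in odd characteristic
-/

set_option autoImplicit false

open Matrix CfsgLib.Classical

noncomputable section

namespace CfsgLib.KnownB.SpWeil

open CfsgLib.MinDeg (levi parSpace finrank_parSpace two_ne_zero_of_odd)

variable {F : Type*} [Field F] [Fintype F]

/-- The square class. -/
def cls (ν : F) : Bool → F
  | true => 1
  | false => ν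

/-- The sign. -/
def sgn : Bool → ℂ
  | true => 1
  | false => -1

/-- The bound on the degree. -/
def gap (F : Type*) [Fintype F] (n : ℕ) : ℝ :=
  (((Fintype.card F) ^ n - 1 : ℕ) : ℝ) * (((Fintype.card F) ^ n - Fintype.card F : ℕ) : ℝ) /
    (2 * ((Fintype.card F : ℕ) + 1 : ℝ))

/-- The irreducible characters below the bound, the trivial degree excepted. -/
def smallChars (F : Type*) [Field F] [Fintype F] (n : ℕ) : Set (Cfsg.IrrCharacter (SpG n F)) :=
  {χ | (χ : SpG n F → ℂ) 1 ≠ 1 ∧ ‖(χ : SpG n F → ℂ) 1‖ < gap F n}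

theorem smallChars_card (hodd : Odd (Fintype.card F)) (k : ℕ) :
    (smallChars F (k + 2)).Finite ∧ (smallChars F (k + 2)).ncard ≤ 4 := by
  classical
  obtain ⟨ψ, hψ1⟩ := AddChar.exists_apply_ne_zero.2 (one_ne_zero (α := F))
  have hψ : ψ ≠ 0 := AddChar.ne_zero_iff.2 ⟨1, hψ1⟩
  obtain ⟨ν, hν0, hν⟩ := exists_nu hodd
  have key : ∀ χ : smallChars F (k + 2), ∃ (p : Bool × Bool) (m : ℕ)
      (ρ : Representation ℂ (SpG (k + 2) F) (Fin m → ℂ)), ρ.IsIrreducible ∧
        ρ.character = (χ.1 : SpG (k + 2) F → ℂ) ∧ RankOne ρ ψ ∧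
        W ρ ψ (cls ν p.1) (Pi.single (0 : Fin (k + 2)) (1 : F)) ≠ ⊥ ∧
        ∀ v, ρ (levi (dg fun _ => -1)) v = sgn p.2 • v := by
    rintro ⟨⟨χ, m, ρ, hirr, rfl⟩, h1, hlt⟩
    have hfin : Module.finrank ℂ (Fin m → ℂ) = m := Module.finrank_fin_fun ℂ
    have hdeg : ρ.character 1 = (m : ℂ) := by rw [Representation.char_one, hfin]
    simp only [hdeg, Complex.norm_natCast] at h1 hlt
    have := CharDeep.IrrTools.apply_ne_zero_of_isIrreducible ρ
    have hpos : 0 < Module.finrank ℂ (Fin m → ℂ) := Module.finrank_pos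
    have hm1 : m ≠ 1 := fun e => h1 (by rw [e, Nat.cast_one])
    have hR : RankOne ρ ψ := by
      by_contra hR
      have hb := degree_of_big (m := k + 1) (by omega) hodd hψ ρ hR
      rw [hfin] at hb
      have hb' : (((Fintype.card F) ^ (k + 2) - 1 : ℕ) : ℝ) *
          (((Fintype.card F) ^ (k + 2) - Fintype.card F : ℕ) : ℝ) ≤
            2 * ((Fintype.card F : ℝ) + 1) * (m : ℝ) := by exact_mod_cast hb
      refine absurd hlt (not_lt.2 ?_)
      rw [gap, div_le_iff₀ (by positivity)]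
      linarith
    obtain ⟨ε, hε, hc⟩ := centre_sign (ρ := ρ)
    obtain ⟨b, hb⟩ : ∃ b, W ρ ψ (cls ν b) (Pi.single (0 : Fin (k + 2)) (1 : F)) ≠ ⊥ := by
      rcases exists_class (ρ := ρ) hodd hR (by omega) hν0 hν with h | h
      · exact ⟨true, h⟩
      · exact ⟨false, h⟩
    rcases hε with rfl | rfl
    · exact ⟨(b, true), m, ρ, hirr, rfl, hR, hb, hc⟩
    · exact ⟨(b, false), m, ρ, hirr, rfl, hR, hb, hc⟩
  choose p m ρ hirr hchar hR hW hc using key
  have hinj : Function.Injective p := by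
    intro a b e
    have ia := hirr a
    have ib := hirr b
    have hWb := hW b
    have hcb := hc b
    rw [← e] at hWb hcb
    have hc0 : cls ν (p a).1 ≠ 0 := by cases (p a).1 <;> simp [cls, hν0]
    have := same_char hodd hψ (hR a) (hR b) (hc a) hcb hc0 (hW a) hWb
    rw [hchar, hchar] at this
    exact Subtype.ext (Subtype.ext this)
  have hfin := Finite.of_injective p hinj
  refine ⟨Set.toFinite _, ?_⟩
  rw [← Nat.card_coe_set_eq]
  exact (Nat.card_le_card_of_injective p hinj).trans (by simp)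

theorem two_le_degree (hodd : Odd (Fintype.card F)) {n : ℕ} (hn : 2 ≤ n) {ε : ℂ} (hε : ε = 1 ∨ ε = -1) :
    2 ≤ {χ : Cfsg.IrrCharacter (SpG n F) |
      (χ : SpG n F → ℂ) 1 = (Module.finrank ℂ (parSpace F n ε) : ℂ)}.encard := by
  classical
  obtain ⟨ψ, hψ1⟩ := AddChar.exists_apply_ne_zero.2 (one_ne_zero (α := F))
  have hψ : ψ ≠ 0 := AddChar.ne_zero_iff.2 ⟨1, hψ1⟩
  obtain ⟨ν, hν0, hν⟩ := exists_nu hodd
  have hψ' : AddChar.mulShift ψ ν ≠ 0 := AddChar.ne_zero_iff.2 ⟨1 / ν, by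
    rwa [AddChar.mulShift_apply, mul_one_div_cancel hν0]⟩
  have := weil_irreducible hodd hψ hn hε
  have := weil_irreducible hodd hψ' hn hε
  let a : Cfsg.IrrCharacter (SpG n F) := ⟨_, CharDeep.IrrTools.isIrrCharacter_character (weil hodd hψ ε)⟩
  let b : Cfsg.IrrCharacter (SpG n F) := ⟨_, CharDeep.IrrTools.isIrrCharacter_character (weil hodd hψ' ε)⟩
  have hab : a ≠ b := fun e => weil_distinct hodd hψ hn hε hν hψ' (congrArg Subtype.val e)
  refine le_trans (le_of_eq (Set.encard_pair hab).symm) (Set.encard_le_encard ?_)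
  rintro χ (rfl | rfl) <;> exact Representation.char_one _

end CfsgLib.KnownB.SpWeil
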