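import Cfsg.Agent.Lib.KnownB.SpWeil.RankOne

/-!
# The subrepresentation generated by a rank one weight vector

If all weights have rank at most one and the centre acts by a scalar, a weight vector of the first basis
vector lies in an invariant subspace that meets its weight space in a line, and contains no weight vector
of the other class.
-/

set_option autoImplicit false

open Matrix CfsgLib.Classical

noncomputable section

namespace CfsgLib.KnownB.SpWeil

open CfsgLib.MinDeg (symMat siegel siegel_coe siegel_add levi levi_coe rootS levi_siegel congS symMat_eq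
  weightSpace mem_weightSpace exists_sym_char two_ne_zero_of_odd)

variable {F : Type*} [Field F] [Fintype F] {k : ℕ} {V : Type*} [AddCommGroup V] [Module ℂ V]
variable {ρ : Representation ℂ (SpG (k + 2) F) V} {ψ : AddChar F ℂ}

local notation "Mat" => Matrix (Fin (k + 2)) (Fin (k + 2)) F
local notation "e₀" => (Pi.single 0 1 : Fin (k + 2) → F)
local notation "e₁" => (Pi.single 1 1 : Fin (k + 2) → F)

/-- The span of the translates of a vector under the Levi subgroup. -/
def orbSpan (ρ : Representation ℂ (SpG (k + 2) F) V) (w : V) : Submodule ℂ V :=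
  Submodule.span ℂ (Set.range fun A : GL (Fin (k + 2)) F => ρ (levi A) w)

/-- The translates together with the vectors fixed by the Siegel subgroup. -/
def ext (ρ : Representation ℂ (SpG (k + 2) F) V) (ψ : AddChar F ℂ) (c : F) (w : V) : Submodule ℂ V :=
  orbSpan ρ w ⊔ W ρ ψ c 0

variable {c : F} {w : V}

theorem orbSpan_levi (A : GL (Fin (k + 2)) F) {r : V} (hr : r ∈ orbSpan ρ w) :
    ρ (levi A) r ∈ orbSpan ρ w := by
  have h : orbSpan ρ w ≤ (orbSpan ρ w).comap (ρ (levi A)) := by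
    refine Submodule.span_le.2 ?_
    rintro _ ⟨B, rfl⟩
    show ρ (levi A) (ρ (levi B) w) ∈ orbSpan ρ w
    rw [act_mul, ← levi_mul]
    exact Submodule.subset_span ⟨A * B, rfl⟩
  exact h hr

theorem orbSpan_self : w ∈ orbSpan ρ w := Submodule.subset_span ⟨1, by simp [levi_one]⟩

theorem transp_inv (A : GL (Fin (k + 2)) F) (x : Fin (k + 2) → F) :
    ((A : Mat))ᵀ *ᵥ (((A⁻¹ : GL (Fin (k + 2)) F) : Mat)ᵀ *ᵥ x) = x := by
  rw [Matrix.mulVec_mulVec, ← Matrix.transpose_mul, Units.inv_mul, Matrix.transpose_one, Matrix.one_mulVec]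

variable (hw : w ∈ W ρ ψ c (Pi.single (0 : Fin (k + 2)) (1 : F)))
include hw

theorem orbSpan_siegel (S : symMat F (k + 2)) {r : V} (hr : r ∈ orbSpan ρ w) :
    ρ (siegel S) r ∈ orbSpan ρ w := by
  have h : orbSpan ρ w ≤ (orbSpan ρ w).comap (ρ (siegel S)) := by
    refine Submodule.span_le.2 ?_
    rintro _ ⟨B, rfl⟩
    show ρ (siegel S) (ρ (levi B) w) ∈ orbSpan ρ w
    rw [mem_W.1 (levi_wt B hw) S]
    exact Submodule.smul_mem _ _ (Submodule.subset_span ⟨B, rfl⟩)
  exact h hr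

theorem orbSpan_pr (χ : AddChar (symMat F (k + 2)) ℂ) {r : V} (hr : r ∈ orbSpan ρ w) :
    pr ρ χ r ∈ orbSpan ρ w := by
  classical
  have h : orbSpan ρ w ≤ (orbSpan ρ w).comap (pr ρ χ) := by
    refine Submodule.span_le.2 ?_
    rintro _ ⟨B, rfl⟩
    show pr ρ χ (ρ (levi B) w) ∈ orbSpan ρ w
    rw [pr_of_mem (levi_wt B hw)]
    split_ifs
    · exact Submodule.subset_span ⟨B, rfl⟩
    · exact zero_mem _
  exact h hr

omit hw in
theorem ext_levi (A : GL (Fin (k + 2)) F) {v : V} (hv : v ∈ ext ρ ψ c w) : ρ (levi A) v ∈ ext ρ ψ c w := by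
  obtain ⟨r, hr, z, hz, rfl⟩ := Submodule.mem_sup.1 hv
  rw [map_add]
  refine Submodule.add_mem_sup (orbSpan_levi A hr) ?_
  simpa using levi_wt A hz

variable (hodd : Odd (Fintype.card F)) (hψ : ψ ≠ 0) (hR : RankOne ρ ψ)
include hodd hψ hR

omit hR hw in
theorem chi_zero_ne {a : F} {y : Fin (k + 2) → F} {r : Fin (k + 2)} (ha : a * (y r * y r) ≠ 0) (d : F) :
    chi ψ (rk1 a y : Mat) ≠ chi ψ (rk1 d (0 : Fin (k + 2) → F) : Mat) := fun h => ha (by
  have := congrArg (fun B : symMat F (k + 2) => (B : Mat) r r) (chi_inj hodd hψ h)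
  simpa [rk1_apply] using this)

omit hR in
theorem pr_ext {a : F} {y : Fin (k + 2) → F} {r : Fin (k + 2)} (ha : a * (y r * y r) ≠ 0) {v : V}
    (hv : v ∈ ext ρ ψ c w) : pr ρ (chi ψ (rk1 a y : Mat)) v ∈ orbSpan ρ w := by
  classical
  obtain ⟨s, hs, z, hz, rfl⟩ := Submodule.mem_sup.1 hv
  rw [map_add, pr_of_mem hz, if_neg (chi_zero_ne hodd hψ ha c), add_zero]
  exact orbSpan_pr hw _ hs

variable (hcen : ∃ ε : ℂ, ∀ v, ρ (levi (dg (fun _ => -1))) v = ε • v) (hc : c ≠ 0)
include hcen hc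

/-- The translates meet the weight space in the line. -/
theorem orbSpan_line {r : V} (hr : r ∈ orbSpan ρ w) :
    ∃ z : ℂ, z • w = pr ρ (chi ψ (rk1 c e₀ : Mat)) r := by
  classical
  have h : orbSpan ρ w ≤ (ℂ ∙ w).comap (pr ρ (chi ψ (rk1 c e₀ : Mat))) := by
    refine Submodule.span_le.2 ?_
    rintro _ ⟨B, rfl⟩
    show pr ρ _ (ρ (levi B) w) ∈ ℂ ∙ w
    rw [pr_of_mem (levi_wt B hw)]
    split_ifs with h
    · set y := ((B⁻¹ : GL (Fin (k + 2)) F) : Mat)ᵀ *ᵥ e₀ with hy
      have he : ∀ r s, e₀ r * e₀ s = y r * y s := fun r s => by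
        have := congrArg (fun M : symMat F (k + 2) => (M : Mat) r s) (chi_inj hodd hψ h)
        simpa [rk1_apply, hc] using this
      have h00 := he 0 0
      simp only [Pi.single_eq_same, mul_one] at h00
      have hyy : y = e₀ ∨ y = -e₀ := by
        rcases mul_self_eq_one_iff.1 h00.symm with h1 | h1
        · left; funext r; have := he r 0; simp [h1] at this; exact this.symm
        · right; funext r; have := he r 0; simp [h1] at this; rw [Pi.neg_apply, this, neg_neg]
      have hB : (B : Mat)ᵀ *ᵥ e₀ = e₀ ∨ (B : Mat)ᵀ *ᵥ e₀ = -e₀ := by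
        have e := transp_inv B e₀
        rw [← hy] at e
        rcases hyy with h1 | h1
        · left; rwa [h1] at e
        · right; rw [h1, Matrix.mulVec_neg] at e; rw [← neg_neg ((B : Mat)ᵀ *ᵥ e₀), e]
      obtain ⟨κ, hκ⟩ := stab_scalar hodd hψ hR hcen hc B hB
      exact Submodule.mem_span_singleton.2 ⟨κ, (hκ w hw).symm⟩
    · exact zero_mem _
  exact Submodule.mem_span_singleton.1 (h hr)

/-- The weights which the Fourier element carries into the translates. -/
def Good (ρ : Representation ℂ (SpG (k + 2) F) V) (ψ : AddChar F ℂ) (c : F) (w : V)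
    (x : Fin (k + 2) → F) : Prop :=
  ∀ y ∈ orbSpan ρ w, y ∈ W ρ ψ c x → ρ (fj 1) y ∈ ext ρ ψ c w

omit hcen hc hw hR hψ hodd in
theorem good_move {A : GL (Fin (k + 2)) F} {B : GL (Fin (k + 2)) F}
    (hcomm : (fj 1 * levi A : SpG (k + 2) F) = levi B * fj 1) {x : Fin (k + 2) → F}
    (hx : Good ρ ψ c w x) : Good ρ ψ c w (((A⁻¹ : GL (Fin (k + 2)) F) : Mat)ᵀ *ᵥ x) := by
  intro y hy hyW
  have h1 := hx (ρ (levi A⁻¹) y) (orbSpan_levi _ hy) (by
    have := levi_wt A⁻¹ hyW
    rwa [inv_inv, transp_inv] at this)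
  have h2 := ext_levi (ψ := ψ) (c := c) B h1
  rwa [act_mul, ← hcomm, ← act_mul, act_mul (levi A), ← levi_mul, mul_inv_cancel, levi_one, map_one,
    Module.End.one_apply] at h2

theorem good_base (s : F) : Good ρ ψ c w (e₀ + Pi.single 1 s) := by
  classical
  intro y hy hyW
  have h01 : (0 : Fin (k + 2)) ≠ 1 := by simp
  have hy0 : ρ (levi (tv 0 1 h01 s)) y ∈ W ρ ψ c e₀ := by
    have := levi_wt (tv 0 1 h01 s) hyW
    rw [tv_act] at this
    convert this using 2
    rw [add_assoc, ← Pi.single_add]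
    simp [h01]
  obtain ⟨z, hz⟩ := orbSpan_line hw hodd hψ hR hcen hc (orbSpan_levi (tv 0 1 h01 s) hy)
  rw [pr_of_mem hy0, if_pos rfl] at hz
  have e : y = z • ρ (levi (tv 0 1 h01 (-s))) w := by
    rw [← map_smul, hz, act_mul, ← levi_mul]
    have : tv 0 1 h01 (-s) * tv 0 1 h01 s = (1 : GL (Fin (k + 2)) F) := Units.ext (by
      rw [Units.val_mul, tv_coe, tv_coe, Matrix.transvection_mul_transvection_same 0 1 h01, neg_add_cancel,
        Matrix.transvection_zero, Units.val_one])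
    rw [this, levi_one, map_one, Module.End.one_apply]
  rw [e, map_smul, act_mul, fj_mul_tv h01, ← act_mul]
  obtain ⟨τ, hτ, -, -⟩ := fourier hodd hψ hR h01 hc
  rw [hτ w hw]
  refine Submodule.smul_mem _ _ (Submodule.mem_sup_left (orbSpan_siegel hw _ (Submodule.smul_mem _ _ ?_)))
  exact Submodule.sum_mem _ fun t _ => Submodule.subset_span ⟨_, rfl⟩

theorem good_zero_ne {x : Fin (k + 2) → F} (hx : x 0 ≠ 0) : Good ρ ψ c w x := by
  classical
  have h01 : (0 : Fin (k + 2)) ≠ 1 := by simp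
  let d : Fin (k + 2) → Fˣ := Function.update 1 0 (Units.mk0 (x 0) hx)⁻¹
  have hbase : Good ρ ψ c w (Pi.single 0 (x 0) + Pi.single 1 (x 1)) := by
    have hcomm : (fj 1 * levi (dg d) : SpG (k + 2) F) = levi (dg d) * fj 1 := by
      rw [fj_comm_diag]
      congr 3
      funext i
      by_cases hi : i = 1 <;> simp [d, hi, Function.update_of_ne, h01.symm]
    have h := good_move hcomm (good_base hw hodd hψ hR hcen hc (x 1))
    rw [dg_act] at h
    convert h using 1
    funext i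
    by_cases hi : i = 0
    · subst hi; simp [d, h01]
    · by_cases hi1 : i = 1
      · subst hi1; simp [d, h01.symm]
      · simp [d, hi, hi1]
  have key : ∀ S : Finset (Fin (k + 2)), 0 ∉ S → 1 ∉ S →
      Good ρ ψ c w (Pi.single 0 (x 0) + Pi.single 1 (x 1) + ∑ p ∈ S, Pi.single p (x p)) := fun S => by
    induction S using Finset.induction_on with
    | empty => exact fun _ _ => by simpa using hbase
    | insert a S ha ih =>
      intro h0 h1
      rw [Finset.mem_insert, not_or] at h0 h1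
      have hne : (0 : Fin (k + 2)) ≠ a := h0.1
      have h1a : (1 : Fin (k + 2)) ≠ a := h1.1
      set t := -(x a / x 0) with ht
      have hcomm : (fj 1 * levi (tv 0 a hne t) : SpG (k + 2) F) = levi (tv 0 a hne t) * fj 1 := by
        refine fj_comm_levi 1 _ ?_ ?_ <;> rw [tv_coe] <;>
          simp [Matrix.transvection, Matrix.add_mul, Matrix.mul_add, eId, h01, h01.symm, h1a, h1a.symm]
      have h := good_move hcomm (ih h0.2 h1.2)
      rw [tv_act] at h
      convert h using 1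
      have hS : (∑ p ∈ S, Pi.single p (x p) : Fin (k + 2) → F) 0 = 0 := by
        rw [Finset.sum_apply]
        exact Finset.sum_eq_zero fun p hp => Pi.single_eq_of_ne (fun e : (0 : Fin (k + 2)) = p => h0.2 (e ▸ hp)) _
      rw [Finset.sum_insert ha]
      simp only [Pi.add_apply, Pi.single_eq_same, Pi.single_eq_of_ne h01, hS, add_zero, ht, neg_mul, neg_neg]
      rw [div_mul_cancel₀ _ hx]
      abel
  have h := key (((Finset.univ : Finset (Fin (k + 2))).erase 0).erase 1) (by simp) (by simp)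
  convert h using 1
  rw [add_assoc, Finset.add_sum_erase _ (fun p => (Pi.single p (x p) : Fin (k + 2) → F)) (by simp [h01.symm]),
    Finset.add_sum_erase _ (fun p => (Pi.single p (x p) : Fin (k + 2) → F)) (Finset.mem_univ 0)]
  exact (Finset.univ_sum_single x).symm

theorem good_off {x : Fin (k + 2) → F} {p : Fin (k + 2)} (hp : p ≠ 1) (hx : x p ≠ 0) : Good ρ ψ c w x := by
  classical
  by_cases h0 : x 0 ≠ 0
  · exact good_zero_ne hw hodd hψ hR hcen hc h0
  rw [not_not] at h0
  have hp0 : p ≠ 0 := fun e => hx (e ▸ h0)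
  have h01 : (0 : Fin (k + 2)) ≠ 1 := by simp
  have hcomm : (fj 1 * levi (tv p 0 hp0 1) : SpG (k + 2) F) = levi (tv p 0 hp0 1) * fj 1 := by
    refine fj_comm_levi 1 _ ?_ ?_ <;> rw [tv_coe] <;>
      simp [Matrix.transvection, Matrix.add_mul, Matrix.mul_add, eId, h01, h01.symm, hp, hp.symm]
  have hx' : (x + Pi.single 0 (x p) : Fin (k + 2) → F) 0 ≠ 0 := by simp [h0, hx]
  have h := good_move hcomm (good_zero_ne hw hodd hψ hR hcen hc hx')
  rw [tv_act] at h
  convert h using 1
  simp [hp0, add_assoc, ← Pi.single_add]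

theorem good_axis {t : F} (ht : t ≠ 0) : Good ρ ψ c w (t • e₁) := by
  classical
  intro y hy hyW
  rcases eq_or_ne y 0 with rfl | hy0
  · rw [map_zero]; exact zero_mem _
  have h10 : (1 : Fin (k + 2)) ≠ 0 := by simp
  set d := c * t ^ 2 with hd
  have hd0 : d ≠ 0 := mul_ne_zero hc (pow_ne_zero 2 ht)
  have hyd : y ∈ W ρ ψ d e₁ := by
    show y ∈ weightSpace ρ siegel (chi ψ (rk1 d e₁ : Mat))
    rw [hd, ← rk1_smul]
    exact hyW
  obtain ⟨τ, hτ, hτ0, -⟩ := fourier hodd hψ hR h10 hd0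
  set z := ρ (fj 1) y with hz
  let a : F → V := fun s => ρ (levi (tv 1 0 h10 (-s))) y
  have ha0 : a 0 = y := by
    have : tv 1 0 h10 (-(0 : F)) = (1 : GL (Fin (k + 2)) F) :=
      Units.ext (by simp [tv_coe, Matrix.transvection_zero])
    simp only [a]
    rw [this, levi_one, map_one, Module.End.one_apply]
  have hE : ρ (fj 0) z - τ • z ∈ ext ρ ψ c w := by
    have e : ρ (fj 0) z = τ • z + τ • ∑ s ∈ Finset.univ.erase (0 : F), ρ (fj 1) (a s) := by
      rw [hz, act_mul, fj_comm_fj (by simp : (0 : Fin (k + 2)) ≠ 1), ← act_mul, hτ y hyd, map_smul, map_sum,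
        ← Finset.add_sum_erase Finset.univ _ (Finset.mem_univ (0 : F)), smul_add]
      rw [show ρ (levi (tv 1 0 h10 (-(0 : F)))) y = y from ha0]
    rw [e, add_sub_cancel_left]
    refine Submodule.smul_mem _ _ (Submodule.sum_mem _ fun s hs => ?_)
    refine good_off hw hodd hψ hR hcen hc (p := 0) (x := t • e₁ + Pi.single 0 (s * t)) (by simp) ?_ _
      (orbSpan_levi _ hy) ?_
    · simp [Finset.ne_of_mem_erase hs, ht]
    · have := levi_wt (tv 1 0 h10 (-s)) hyW
      rw [tv_act] at this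
      simpa using this
  -- every component lies in the translates
  cases nonempty_fintype (AddChar (symMat F (k + 2)) ℂ)
  have hform : ∀ χ, pr ρ χ z ≠ 0 → ∃ (d' : F) (y' : Fin (k + 2) → F), χ = chi ψ (rk1 d' y' : Mat) ∧
      (∀ r, r ≠ 1 → d' * (y' r * y' r) = 0) ∧ chi ψ (rk1 d' y' : Mat) = chi ψ (rk1 (d' * y' 1 ^ 2) e₁ : Mat) := by
    intro χ hne
    obtain ⟨d', y', rfl, hy'⟩ := fj_comp hodd hψ hR 1 hyd hne
    have hr : ∀ r, r ≠ 1 → d' * (y' r * y' r) = 0 := fun r hr => by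
      rw [hy' r r hr hr]; simp [hr]
    refine ⟨d', y', rfl, hr, ?_⟩
    congr 1
    ext r s
    rw [rk1_apply, rk1_apply]
    rcases eq_or_ne d' 0 with rfl | hd'
    · simp
    have hz' : ∀ r, r ≠ 1 → y' r = 0 := fun r h => mul_self_eq_zero.1 ((mul_eq_zero.1 (hr r h)).resolve_left hd')
    by_cases hr1 : r = 1 <;> by_cases hs1 : s = 1
    · subst hr1; subst hs1; simp [sq]
    · simp [hr1, hs1, hz' s hs1]
    · simp [hr1, hs1, hz' r hr1]
    · simp [hr1, hz' r hr1]
  show z ∈ ext ρ ψ c w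
  rw [← sum_pr (ρ := ρ) z, finsum_eq_sum_of_fintype]
  refine Submodule.sum_mem _ fun χ _ => ?_
  by_cases hne : pr ρ χ z = 0
  · rw [hne]; exact zero_mem _
  obtain ⟨d', y', rfl, -, heq⟩ := hform χ hne
  have hlam : pr ρ (chi ψ (rk1 d' y' : Mat)) z ∈ weightSpace ρ siegel (chi ψ (rk1 (d' * y' 1 ^ 2) e₁ : Mat)) := by
    rw [← heq]; exact pr_mem _ _
  rcases eq_or_ne (d' * y' 1 ^ 2) 0 with h0 | h0
  · refine Submodule.mem_sup_right ?_
    show _ ∈ weightSpace ρ siegel (chi ψ (rk1 c (0 : Fin (k + 2) → F) : Mat))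
    rw [rk1_zero]
    rw [h0] at hlam
    convert hlam using 4
    ext r s
    simp [rk1_apply]
  refine Submodule.mem_sup_left ?_
  set d'' := d' * y' 1 ^ 2 with hd''
  set lam := pr ρ (chi ψ (rk1 d' y' : Mat)) z with hlam'
  let x1 : Fin (k + 2) → F := e₁ + Pi.single 0 1
  have hx11 : d'' * (x1 1 * x1 1) ≠ 0 := by simpa [x1] using h0
  have hprz : pr ρ (chi ψ (rk1 d'' x1 : Mat)) z = 0 := by
    by_contra hne'
    obtain ⟨d3, y3, h3, hr3, -⟩ := hform _ hne'
    have := congrArg (fun M : symMat F (k + 2) => (M : Mat) 0 0) (chi_inj hodd hψ h3)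
    simp [rk1_apply, x1, hr3 0 (by simp), h0] at this
  obtain ⟨τ', hτ', hτ'0, -⟩ := fourier hodd hψ hR h10 h0
  have hcomp : pr ρ (chi ψ (rk1 d'' x1 : Mat)) (ρ (fj 0) z) = τ' • ρ (levi (tv 1 0 h10 (-1))) lam := by
    conv_lhs => rw [← sum_pr (ρ := ρ) z, finsum_eq_sum_of_fintype, map_sum, map_sum]
    rw [Finset.sum_eq_single (chi ψ (rk1 d' y' : Mat)) (fun χ' _ hχ' => ?_) (fun h => absurd (Finset.mem_univ _) h)]
    · rw [← hlam', hτ' lam hlam, map_smul, map_sum, Finset.sum_eq_single (1 : F) (fun s _ hs => ?_)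
        (fun h => absurd (Finset.mem_univ _) h)]
      · rw [pr_of_mem (levi_wt _ hlam), if_pos]
        congr 2
        rw [tv_act]
        simp [x1, d'']
      · rw [pr_of_mem (levi_wt _ hlam), if_neg]
        intro h
        rw [tv_act] at h
        have := congrArg (fun M : symMat F (k + 2) => (M : Mat) 1 0) (chi_inj hodd hψ h)
        simp [rk1_apply, x1, h0] at this
        exact hs this
    · by_cases hne' : pr ρ χ' z = 0
      · rw [hne', map_zero, map_zero]
      obtain ⟨d3, y3, rfl, -, heq3⟩ := hform χ' hne'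
      have hmem : pr ρ (chi ψ (rk1 d3 y3 : Mat)) z ∈ W ρ ψ (d3 * y3 1 ^ 2) e₁ := by
        show _ ∈ weightSpace ρ siegel _
        rw [← heq3]; exact pr_mem _ _
      rcases eq_or_ne (d3 * y3 1 ^ 2) 0 with h30 | h30
      · by_contra hne''
        obtain ⟨d5, y5, h5, hy5⟩ := fj_comp hodd hψ hR 0 hmem hne''
        have h5' := congrArg (fun M : symMat F (k + 2) => (M : Mat) 1 1) (chi_inj hodd hψ h5)
        simp only [rk1_apply, hy5 1 1 (by simp) (by simp), h30, zero_mul] at h5'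
        exact hx11 h5'
      · obtain ⟨τ3, hτ3, -, -⟩ := fourier hodd hψ hR h10 h30
        rw [hτ3 _ hmem, map_smul, map_sum, Finset.sum_eq_zero, smul_zero]
        intro s _
        rw [pr_of_mem (levi_wt _ hmem), if_neg]
        intro h
        rw [tv_act] at h
        have h11 := congrArg (fun M : symMat F (k + 2) => (M : Mat) 1 1) (chi_inj hodd hψ h)
        simp [rk1_apply, x1] at h11
        refine hχ' ?_
        rw [heq3, heq, ← h11]
  have hmem : pr ρ (chi ψ (rk1 d'' x1 : Mat)) (ρ (fj 0) z - τ • z) ∈ orbSpan ρ w :=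
    pr_ext hw hodd hψ hx11 hE
  rw [map_sub, map_smul, hprz, smul_zero, sub_zero, hcomp] at hmem
  rcases eq_or_ne lam 0 with hl | hl
  · rw [hl]; exact zero_mem _
  have h2 := orbSpan_levi (tv 1 0 h10 1) (((Submodule.smul_mem_iff _ (hτ'0 lam hlam hl)).1 hmem))
  rw [act_mul, ← levi_mul] at h2
  have : tv 1 0 h10 1 * tv 1 0 h10 (-1) = (1 : GL (Fin (k + 2)) F) := Units.ext (by
    rw [Units.val_mul, tv_coe, tv_coe, Matrix.transvection_mul_transvection_same 1 0 h10, add_neg_cancel,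
      Matrix.transvection_zero, Units.val_one])
  rwa [this, levi_one, map_one, Module.End.one_apply] at h2

theorem fj_orbSpan {r : V} (hr : r ∈ orbSpan ρ w) : ρ (fj 1) r ∈ ext ρ ψ c w := by
  classical
  have h : orbSpan ρ w ≤ (ext ρ ψ c w).comap (ρ (fj 1)) := by
    refine Submodule.span_le.2 ?_
    rintro _ ⟨B, rfl⟩
    set x := ((B⁻¹ : GL (Fin (k + 2)) F) : Mat)ᵀ *ᵥ e₀ with hx
    have hmem : ρ (levi B) w ∈ orbSpan ρ w := Submodule.subset_span ⟨B, rfl⟩
    by_cases h : ∃ p, p ≠ 1 ∧ x p ≠ 0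
    · obtain ⟨p, hp, hxp⟩ := h
      exact good_off hw hodd hψ hR hcen hc hp hxp _ hmem (levi_wt B hw)
    · push Not at h
      have hx1 : x = x 1 • e₁ := by
        funext r
        by_cases hr : r = 1
        · subst hr; simp
        · simp [h r hr, hr]
      have hne : x 1 ≠ 0 := fun e => by
        have := transp_inv B e₀
        rw [← hx, hx1, e, zero_smul, Matrix.mulVec_zero] at this
        simpa using congrFun this 0
      refine good_axis hw hodd hψ hR hcen hc hne _ hmem ?_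
      rw [← hx1]
      exact levi_wt B hw
  exact h hr

/-- The invariant subspace. -/
theorem exists_invariant [FiniteDimensional ℂ V] :
    ∃ U : Submodule ℂ V, (∀ g, ∀ u ∈ U, ρ g u ∈ U) ∧ w ∈ U ∧
      (∀ u ∈ U, u ∈ W ρ ψ c e₀ → ∃ z : ℂ, z • w = u) ∧
      ∀ c', c' ≠ 0 → (∀ t, c * t ^ 2 ≠ c') → ∀ u ∈ U, u ∈ W ρ ψ c' e₀ → u = 0 := by
  classical
  let K : Submodule ℂ V := W ρ ψ c 0 ⊓ (ext ρ ψ c w).comap (ρ (fj 1))
  let U : Submodule ℂ V := orbSpan ρ w ⊔ K
  have hsq : ∀ v : V, ρ (fj 1) (ρ (fj 1) v) = ρ (levi (dg (Function.update 1 1 (-1)))) v := fun v => by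
    rw [act_mul, fj_sq]
  have hvs : ∀ A : GL (Fin (k + 2)) F, ∀ v ∈ W ρ ψ c 0, ρ (levi A) v ∈ W ρ ψ c 0 := fun A v hv => by
    simpa using levi_wt A hv
  -- the fixed vectors are moved only through the diagonal
  have hK : ∀ A : GL (Fin (k + 2)) F, ∀ v ∈ K, ρ (levi A) v ∈ K := by
    intro A
    suffices key : ∀ M : Mat, M.det ≠ 0 → ∀ A : GL (Fin (k + 2)) F, (A : Mat) = M →
        ∀ v ∈ K, ρ (levi A) v ∈ K from key _ (Matrix.isUnit_iff_isUnit_det _ |>.1 A.isUnit).ne_zero A rfl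
    intro M hM
    refine Matrix.diagonal_transvection_induction_of_det_ne_zero
      (fun M => ∀ A : GL (Fin (k + 2)) F, (A : Mat) = M → ∀ v ∈ K, ρ (levi A) v ∈ K)
      M hM (fun d hd A hA v hv => ?_) (fun T A hA v hv => ?_) fun M₁ M₂ h1 h2 i1 i2 A hA v hv => ?_
    · have hd' : ∀ i, d i ≠ 0 := fun i => by
        rw [Matrix.det_diagonal] at hd
        exact Finset.prod_ne_zero_iff.1 hd i (Finset.mem_univ i)
      have e : A = dg fun i => Units.mk0 (d i) (hd' i) := Units.ext (by rw [hA, dg_coe]; rfl)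
      subst e
      refine ⟨hvs _ v hv.1, ?_⟩
      show ρ (fj 1) (ρ _ v) ∈ ext ρ ψ c w
      rw [act_mul, fj_comm_diag, ← act_mul]
      exact ext_levi _ hv.2
    · obtain ⟨p, q, hpq, t⟩ := T
      have e : A = tv p q hpq t := Units.ext (by rw [hA, tv_coe]; rfl)
      subst e
      rwa [tv_fix hodd hψ hR hpq t (by simp) hv.1]
    · have u1 := (Matrix.isUnit_iff_isUnit_det M₁).2 (isUnit_iff_ne_zero.2 h1)
      have u2 := (Matrix.isUnit_iff_isUnit_det M₂).2 (isUnit_iff_ne_zero.2 h2)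
      have e : A = u1.unit * u2.unit :=
        Units.ext (by rw [Units.val_mul, hA, IsUnit.unit_spec, IsUnit.unit_spec])
      rw [e, levi_mul, ← act_mul]
      exact i1 _ u1.unit_spec _ (i2 _ u2.unit_spec v hv)
  -- stability under the Fourier element
  have hF : ∀ u ∈ U, ρ (fj 1) u ∈ U := by
    intro u hu
    obtain ⟨r, hr, v, hv, rfl⟩ := Submodule.mem_sup.1 hu
    have h2 : ρ (fj 1) (r + v) ∈ ext ρ ψ c w := by
      rw [map_add]; exact add_mem (fj_orbSpan hw hodd hψ hR hcen hc hr) hv.2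
    obtain ⟨r', hr', v', hv', e⟩ := Submodule.mem_sup.1 h2
    rw [← e]
    refine Submodule.add_mem_sup hr' ⟨hv', ?_⟩
    show ρ (fj 1) v' ∈ ext ρ ψ c w
    rw [show v' = ρ (fj 1) (r + v) - r' from eq_sub_of_add_eq' e, map_sub, hsq, map_add]
    exact sub_mem (Submodule.add_mem_sup (orbSpan_levi _ hr) (hvs _ v hv.1))
      (fj_orbSpan hw hodd hψ hR hcen hc hr')
  have hS : ∀ (S : symMat F (k + 2)), ∀ u ∈ U, ρ (siegel S) u ∈ U := by
    intro S u hu
    obtain ⟨r, hr, v, hv, rfl⟩ := Submodule.mem_sup.1 hu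
    rw [map_add, mem_W_zero.1 hv.1]
    exact Submodule.add_mem_sup (orbSpan_siegel hw S hr) hv
  have hL : ∀ (A : GL (Fin (k + 2)) F), ∀ u ∈ U, ρ (levi A) u ∈ U := by
    intro A u hu
    obtain ⟨r, hr, v, hv, rfl⟩ := Submodule.mem_sup.1 hu
    rw [map_add]
    exact Submodule.add_mem_sup (orbSpan_levi A hr) (hK A v hv)
  let stab : Subgroup (SpG (k + 2) F) :=
    { carrier := {g | U.map (ρ g) = U}
      mul_mem' := fun {g h} hg hh => by
        show U.map (ρ (g * h)) = U
        rw [map_mul, show ρ g * ρ h = (ρ g).comp (ρ h) from rfl, Submodule.map_comp, hh, hg]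
      one_mem' := by show U.map (ρ 1) = U; rw [map_one]; exact Submodule.map_id U
      inv_mem' := fun {g} hg => by
        show U.map (ρ g⁻¹) = U
        conv_lhs => rw [← (hg : U.map (ρ g) = U)]
        rw [← Submodule.map_comp, show (ρ g⁻¹).comp (ρ g) = ρ g⁻¹ * ρ g from rfl, ← map_mul, inv_mul_cancel,
          map_one]
        exact Submodule.map_id U }
  have hmap : ∀ g, (∀ u ∈ U, ρ g u ∈ U) → g ∈ stab := fun g hg => by
    refine Submodule.eq_of_le_of_finrank_eq (Submodule.map_le_iff_le_comap.2 hg) ?_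
    exact (Submodule.equivMapOfInjective _ (fun a b h => by
      have := congrArg (ρ g⁻¹) h
      rwa [act_mul, act_mul, inv_mul_cancel, map_one] at this) U).finrank_eq.symm
  have hstab : stab = ⊤ :=
    eq_top_of_gens stab 1 (fun A => hmap _ (hL A)) (fun S => hmap _ (hS S)) (hmap _ hF)
  refine ⟨U, fun g u hu => ?_, Submodule.mem_sup_left orbSpan_self, fun u hu huW => ?_,
    fun c' hc' hne u hu huW => ?_⟩
  · have : g ∈ stab := hstab ▸ Subgroup.mem_top g
    exact (show U.map (ρ g) = U from this) ▸ Submodule.mem_map_of_mem hu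
  · obtain ⟨r, hr, v, hv, rfl⟩ := Submodule.mem_sup.1 hu
    obtain ⟨z, hz⟩ := orbSpan_line hw hodd hψ hR hcen hc hr
    refine ⟨z, hz.trans ?_⟩
    have e := pr_of_mem (χ := chi ψ (rk1 c e₀ : Mat)) huW
    rwa [if_pos rfl, map_add, pr_of_mem hv.1, if_neg (chi_zero_ne hodd hψ (r := 0) (by simpa using hc) c),
      add_zero] at e
  · obtain ⟨r, hr, v, hv, rfl⟩ := Submodule.mem_sup.1 hu
    have h0 : orbSpan ρ w ≤ LinearMap.ker (pr ρ (chi ψ (rk1 c' e₀ : Mat))) := by
      refine Submodule.span_le.2 ?_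
      rintro _ ⟨B, rfl⟩
      rw [SetLike.mem_coe, LinearMap.mem_ker, pr_of_mem (levi_wt B hw), if_neg]
      intro h
      have := congrArg (fun M : symMat F (k + 2) => (M : Mat) 0 0) (chi_inj hodd hψ h)
      simp [rk1_apply] at this
      exact hne _ (by rw [sq]; exact this.symm)
    have e := pr_of_mem (χ := chi ψ (rk1 c' e₀ : Mat)) huW
    rwa [if_pos rfl, map_add, pr_of_mem hv.1, if_neg (chi_zero_ne hodd hψ (r := 0) (by simpa using hc') c),
      add_zero, LinearMap.mem_ker.1 (h0 hr), eq_comm] at e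

end CfsgLib.KnownB.SpWeil
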