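import Cfsg.Agent.Lib.KnownB.MinDeg.SpSiegel

/-!
# One Fourier element of the symplectic group, with its relations to the Siegel parabolic
-/

set_option autoImplicit false

open Matrix CfsgLib.Classical

namespace CfsgLib.KnownB.SpWeil

open CfsgLib.MinDeg (symMat siegel siegel_coe siegel_add levi levi_coe rootS siegel_rootS)

variable {F : Type*} [Field F] {n : ℕ}

local notation "Mat" => Matrix (Fin n) (Fin n) F

/-- The symplectic group as a type. -/
abbrev SpG (n : ℕ) (F : Type*) [Field F] : Type _ := ↥(symplecticGroup (Fin n) F)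

/-- The elementary idempotent. -/
def eId (j : Fin n) : Mat := Matrix.single j j 1

theorem eId_mul_self (j : Fin n) : eId (F := F) j * eId j = eId j := by
  simp [eId]

theorem eId_transpose (j : Fin n) : (eId (F := F) j)ᵀ = eId j := Matrix.transpose_single ..

/-- The Fourier element of one coordinate. -/
def fj (j : Fin n) : symplecticGroup (Fin n) F :=
  ⟨fromBlocks (1 - eId j) (eId j) (-eId j) (1 - eId j), by
    rw [SymplecticGroup.mem_iff, Matrix.fromBlocks_transpose, Matrix.J, Matrix.fromBlocks_multiply,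
      Matrix.fromBlocks_multiply]
    simp [Matrix.transpose_sub, eId_transpose, Matrix.mul_sub, Matrix.sub_mul, eId_mul_self]
    abel⟩

theorem fj_coe (j : Fin n) : (fj (F := F) j : Matrix (Fin n ⊕ Fin n) (Fin n ⊕ Fin n) F) =
    fromBlocks (1 - eId j) (eId j) (-eId j) (1 - eId j) := rfl

/-- A transvection. -/
def tv (p q : Fin n) (h : p ≠ q) (t : F) : GL (Fin n) F :=
  ⟨Matrix.transvection p q t, Matrix.transvection p q (-t),
    by rw [Matrix.transvection_mul_transvection_same p q h, add_neg_cancel, Matrix.transvection_zero],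
    by rw [Matrix.transvection_mul_transvection_same p q h, neg_add_cancel, Matrix.transvection_zero]⟩

theorem tv_coe {p q : Fin n} (h : p ≠ q) (t : F) :
    (tv p q h t : Mat) = Matrix.transvection p q t := rfl

theorem tv_inv_coe {p q : Fin n} (h : p ≠ q) (t : F) :
    (((tv p q h t)⁻¹ : GL (Fin n) F) : Mat) = Matrix.transvection p q (-t) := rfl

/-- A diagonal matrix. -/
def dg (d : Fin n → Fˣ) : GL (Fin n) F :=
  ⟨Matrix.diagonal fun i => (d i : F), Matrix.diagonal fun i => (((d i)⁻¹ : Fˣ) : F),
    by rw [Matrix.diagonal_mul_diagonal]; simp, by rw [Matrix.diagonal_mul_diagonal]; simp⟩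

theorem dg_coe (d : Fin n → Fˣ) : (dg d : Mat) = Matrix.diagonal fun i => (d i : F) := rfl

theorem dg_inv_coe (d : Fin n → Fˣ) :
    (((dg d)⁻¹ : GL (Fin n) F) : Mat) = Matrix.diagonal fun i => (((d i)⁻¹ : Fˣ) : F) := rfl

/-- The element of two coordinates in the symmetric matrices. -/
def symT (p q : Fin n) (t : F) : symMat F n :=
  ⟨Matrix.single p q t + Matrix.single q p t, by
    show (_)ᵀ = _
    rw [transpose_add, transpose_single, transpose_single, add_comm]⟩

theorem levi_mul (A B : GL (Fin n) F) : levi (A * B) = levi A * levi B := by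
  refine Subtype.ext ?_
  show fromBlocks _ _ _ _ = fromBlocks _ _ _ _ * fromBlocks _ _ _ _
  rw [Matrix.fromBlocks_multiply]
  simp [_root_.mul_inv_rev, Matrix.transpose_mul]

theorem levi_one : levi (1 : GL (Fin n) F) = 1 := by
  refine Subtype.ext ?_
  show fromBlocks _ _ _ _ = 1
  simp

theorem siegel_zero : siegel (0 : symMat F n) = 1 := by
  refine Subtype.ext ?_
  show fromBlocks _ _ _ _ = 1
  simp

theorem fj_comm_siegel (j : Fin n) (S : symMat F n) (h : ∀ i, (S : Mat) i j = 0) :
    fj j * siegel S = siegel S * fj j := by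
  have h1 : (S : Mat) * eId j = 0 := by
    ext a b
    by_cases hb : b = j
    · subst hb; simp [eId, h a]
    · simp [eId, hb]
  have h2 : eId j * (S : Mat) = 0 := by
    have := congrArg Matrix.transpose h1
    rwa [transpose_mul, eId_transpose, CfsgLib.MinDeg.symMat_eq, transpose_zero] at this
  refine Subtype.ext ?_
  rw [Submonoid.coe_mul, Submonoid.coe_mul, fj_coe, siegel_coe, Matrix.fromBlocks_multiply,
    Matrix.fromBlocks_multiply]
  simp [Matrix.mul_sub, Matrix.sub_mul, h1, h2, add_comm]

theorem fj_comm_levi (j : Fin n) (A : GL (Fin n) F) (h1 : (A : Mat) * eId j = eId j)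
    (h2 : eId j * (A : Mat) = eId j) : fj j * levi A = levi A * fj j := by
  have h3 : ((A⁻¹ : GL (Fin n) F) : Mat) * eId j = eId j := by
    conv_lhs => rw [← h1]
    rw [← Matrix.mul_assoc, Units.inv_mul, Matrix.one_mul]
  have h4 : eId j * ((A⁻¹ : GL (Fin n) F) : Mat) = eId j := by
    conv_lhs => rw [← h2]
    rw [Matrix.mul_assoc, Units.mul_inv, Matrix.mul_one]
  have h5 := congrArg Matrix.transpose h3
  have h6 := congrArg Matrix.transpose h4
  rw [transpose_mul, eId_transpose] at h5 h6
  refine Subtype.ext ?_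
  rw [Submonoid.coe_mul, Submonoid.coe_mul, fj_coe, levi_coe, Matrix.fromBlocks_multiply,
    Matrix.fromBlocks_multiply]
  simp only [Matrix.coe_units_inv] at h5 h6
  simp [Matrix.mul_sub, Matrix.sub_mul, h1, h2, h5, h6]

theorem fj_comm_diag (j : Fin n) (d : Fin n → Fˣ) :
    fj j * levi (dg d) = levi (dg (Function.update d j (d j)⁻¹)) * fj j := by
  refine Subtype.ext ?_
  rw [Submonoid.coe_mul, Submonoid.coe_mul, fj_coe, levi_coe, levi_coe, dg_coe, dg_coe, dg_inv_coe, dg_inv_coe,
    Matrix.fromBlocks_multiply, Matrix.fromBlocks_multiply]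
  have e : eId (F := F) j = Matrix.diagonal (Pi.single j 1) := (Matrix.diagonal_single j 1).symm
  rw [e, ← Matrix.diagonal_one, Matrix.diagonal_sub, Matrix.diagonal_transpose, Matrix.diagonal_transpose,
    Matrix.diagonal_neg]
  simp only [Matrix.diagonal_mul_diagonal, Matrix.mul_zero, Matrix.zero_mul, add_zero, zero_add,
    Matrix.diagonal_add]
  congr 1 <;> congr 1 <;> funext i <;> by_cases hi : i = j <;> simp [hi, Function.update_of_ne]

theorem fj_mul_symT {p j : Fin n} (h : p ≠ j) (t : F) :
    fj j * siegel (symT p j t) = levi (tv p j h t) * fj j := by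
  refine Subtype.ext ?_
  rw [Submonoid.coe_mul, Submonoid.coe_mul, fj_coe, siegel_coe, levi_coe, tv_coe, tv_inv_coe,
    Matrix.fromBlocks_multiply, Matrix.fromBlocks_multiply]
  simp [symT, eId, Matrix.transvection, Matrix.mul_sub, Matrix.sub_mul, Matrix.mul_add, Matrix.add_mul,
    Matrix.transpose_add, Matrix.transpose_single, h, h.symm]
  all_goals repeat' constructor
  all_goals ext a c
  all_goals simp [Matrix.single_apply]
  all_goals split_ifs <;> simp_all
  all_goals ring

theorem fj_mul_tv {p j : Fin n} (h : p ≠ j) (t : F) :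
    fj j * levi (tv p j h t) = siegel (symT p j (-t)) * fj j := by
  refine Subtype.ext ?_
  rw [Submonoid.coe_mul, Submonoid.coe_mul, fj_coe, siegel_coe, levi_coe, tv_coe, tv_inv_coe,
    Matrix.fromBlocks_multiply, Matrix.fromBlocks_multiply]
  simp [symT, eId, Matrix.transvection, Matrix.mul_sub, Matrix.sub_mul, Matrix.mul_add, Matrix.add_mul,
    Matrix.transpose_add, Matrix.transpose_single, h, h.symm]
  all_goals repeat' constructor
  all_goals ext a c
  all_goals simp [Matrix.single_apply]
  all_goals split_ifs <;> simp_all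
  all_goals ring

theorem single_eq_smul (j : Fin n) (b : F) : (Matrix.single j j b : Mat) = b • eId j := by
  simp [eId, Matrix.smul_single]

theorem diag_update (j : Fin n) (b : Fˣ) :
    (Matrix.diagonal fun i => ((Function.update 1 j b : Fin n → Fˣ) i : F)) =
      (1 : Mat) + ((b : F) - 1) • eId j := by
  ext a c
  simp only [Matrix.diagonal_apply, eId, Matrix.add_apply, Matrix.one_apply, Matrix.smul_apply,
    Matrix.single_apply, smul_eq_mul]
  by_cases hac : a = c
  · subst hac
    by_cases ha : a = j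
    · subst ha; simp
    · simp [ha, Ne.symm ha]
  · by_cases ha : j = a
    · subst ha; simp [hac]
    · simp [hac, ha]

theorem diag_update_inv (j : Fin n) (b : Fˣ) :
    (Matrix.diagonal fun i => ((((Function.update 1 j b : Fin n → Fˣ) i)⁻¹ : Fˣ) : F)) =
      (1 : Mat) + (((b⁻¹ : Fˣ) : F) - 1) • eId j := by
  rw [← diag_update j b⁻¹]
  congr 1
  funext i
  by_cases hi : i = j <;> simp [hi, Function.update_of_ne]

theorem fj_sq (j : Fin n) : fj (F := F) j * fj j = levi (dg (Function.update 1 j (-1))) := by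
  refine Subtype.ext ?_
  rw [Submonoid.coe_mul, fj_coe, levi_coe, dg_coe, dg_inv_coe, diag_update, diag_update_inv,
    Matrix.fromBlocks_multiply]
  simp only [Matrix.transpose_add, Matrix.transpose_one, Matrix.transpose_smul, eId_transpose,
    Matrix.mul_sub, Matrix.sub_mul, Matrix.mul_neg, Matrix.neg_mul, eId_mul_self, Matrix.one_mul, Matrix.mul_one,
    inv_neg, inv_one, Units.val_neg, Units.val_one]
  congr 1 <;> module

/-- The braid relation in one coordinate. -/
theorem braid (j : Fin n) (b : Fˣ) :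
    siegel (rootS j (b : F)) * fj j * siegel (rootS j ((b⁻¹ : Fˣ) : F)) * fj j * siegel (rootS j (b : F)) * fj j =
      levi (dg (Function.update 1 j b)) := by
  refine Subtype.ext ?_
  simp only [Submonoid.coe_mul, fj_coe, siegel_coe, levi_coe, dg_coe, dg_inv_coe, diag_update, diag_update_inv,
    Matrix.fromBlocks_multiply]
  simp only [rootS, single_eq_smul, Matrix.transpose_add, Matrix.transpose_one, Matrix.transpose_smul, eId_transpose,
    Matrix.mul_sub, Matrix.sub_mul, Matrix.mul_add, Matrix.add_mul, Matrix.mul_neg, Matrix.neg_mul, eId_mul_self,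
    Matrix.one_mul, Matrix.mul_one, Matrix.smul_mul, Matrix.mul_smul, Matrix.mul_zero, Matrix.zero_mul,
    Units.val_inv_eq_inv_val]
  have hb : (b : F) ≠ 0 := b.ne_zero
  congr 1 <;> match_scalars <;> field_simp <;> ring

/-- A subgroup with the Levi and Siegel elements and one Fourier element is everything. -/
theorem eq_top_of_gens [Fintype F] [DecidableEq F] (K : Subgroup (symplecticGroup (Fin n) F)) (j : Fin n)
    (hL : ∀ A, levi A ∈ K) (hS : ∀ S, siegel S ∈ K) (hF : fj j ∈ K) : K = ⊤ := by
  classical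
  let base : Fin n ⊕ Fin n → F := Pi.single (.inl j) 1
  let orb : Set (Fin n ⊕ Fin n → F) :=
    {w | ∃ g ∈ K, (g : Matrix (Fin n ⊕ Fin n) (Fin n ⊕ Fin n) F) *ᵥ base = w}
  have step : ∀ g ∈ K, ∀ w ∈ orb, (g : Matrix (Fin n ⊕ Fin n) (Fin n ⊕ Fin n) F) *ᵥ w ∈ orb := by
    rintro g hg w ⟨g', hg', rfl⟩
    exact ⟨g * g', mul_mem hg hg', by rw [Matrix.mulVec_mulVec]; rfl⟩
  have hbase : base ∈ orb := ⟨1, one_mem _, by simp⟩
  have hleft : ∀ b : Fin n → F, b ≠ 0 → Sum.elim b 0 ∈ orb := by
    intro b hb
    obtain ⟨A, hA⟩ := CfsgLib.MinDeg.exists_gl_col j hb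
    convert step _ (hL A) _ hbase using 1
    rw [levi_coe, Matrix.fromBlocks_mulVec]
    have e1 : base ∘ Sum.inl = Pi.single j 1 := by funext i; simp [base, Pi.single_apply]
    have e2 : base ∘ Sum.inr = 0 := by funext i; simp [base]
    rw [e1, e2, hA]
    simp only [Matrix.mulVec_zero, Matrix.zero_mulVec, add_zero]
  have hj : Sum.elim (0 : Fin n → F) (Pi.single j 1 : Fin n → F) ∈ orb := by
    convert step _ hF _ (hleft (-Pi.single j 1) (by simp)) using 1
    rw [fj_coe, Matrix.fromBlocks_mulVec]
    funext i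
    rcases i with i | i <;>
      simp [eId, Matrix.sub_mulVec, Matrix.neg_mulVec, Matrix.mulVec_neg, Matrix.single_mulVec,
        Matrix.one_mulVec, Matrix.col, Matrix.one_apply, Matrix.single_apply, Pi.single_apply, eq_comm]
  have hall : ∀ w : Fin n ⊕ Fin n → F, w ≠ 0 → w ∈ orb := by
    intro w hw
    obtain ⟨b, a, rfl⟩ : ∃ b a : Fin n → F, w = Sum.elim b a :=
      ⟨w ∘ Sum.inl, w ∘ Sum.inr, (Sum.elim_comp_inl_inr w).symm⟩
    by_cases ha : a = 0
    · subst ha
      refine hleft b fun hb => hw ?_
      subst hb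
      simp
    obtain ⟨A, hA⟩ := CfsgLib.MinDeg.exists_gl_mulVec (F := F) (v := Pi.single j (1 : F)) (by simp) ha
    let A' : GL (Fin n) F := ⟨((A⁻¹ : GL (Fin n) F) : Mat)ᵀ, (A : Mat)ᵀ,
      CfsgLib.MinDeg.gl_transpose_mul_inv A, CfsgLib.MinDeg.gl_inv_mul_transpose A⟩
    have ha' : Sum.elim (0 : Fin n → F) a ∈ orb := by
      convert step _ (hL A') _ hj using 1
      rw [levi_coe, Matrix.fromBlocks_mulVec]
      simp only [Sum.elim_comp_inl, Sum.elim_comp_inr, Matrix.mulVec_zero, Matrix.zero_mulVec, add_zero,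
        zero_add]
      congr 1
      show a = ((A : Mat)ᵀ)ᵀ *ᵥ Pi.single j 1
      rw [Matrix.transpose_transpose, hA]
    obtain ⟨i, hi⟩ := Function.ne_iff.1 ha
    -- a symmetric matrix sending `a` to `b`
    let r : F := (∑ k, a k * b k) / (a i * a i)
    let S : Mat := vecMulVec b (Pi.single i (a i)⁻¹) + vecMulVec (Pi.single i (a i)⁻¹) b - Matrix.single i i r
    have hS' : Sᵀ = S := by
      simp [S, Matrix.transpose_vecMulVec, Matrix.transpose_single, add_comm]
    convert step _ (hS ⟨S, hS'⟩) _ ha' using 1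
    rw [siegel_coe, Matrix.fromBlocks_mulVec]
    simp only [Sum.elim_comp_inl, Sum.elim_comp_inr, Matrix.mulVec_zero, Matrix.zero_mulVec,
      zero_add, Matrix.one_mulVec]
    congr 1
    funext k
    have hi' : a i ≠ 0 := hi
    simp [S, Matrix.sub_mulVec, Matrix.add_mulVec, Matrix.vecMulVec_mulVec, single_dotProduct,
      Matrix.single_mulVec, dotProduct_comm b a]
    by_cases hk : k = i
    · subst hk
      simp [r, dotProduct]
      field_simp
      ring
    · simp [hk, Function.update_of_ne]
      field_simp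
  rw [eq_top_iff, ← closure_sympTransvection F n, Subgroup.closure_le]
  rintro T ⟨w, c, hT⟩
  by_cases hw : w = 0
  · have : T = 1 := by
      refine Subtype.ext (hT.trans (Matrix.ext_of_mulVec_single fun k => ?_))
      rw [sympTransvection_mulVec, tv_apply, hw, smul_zero, add_zero]
      exact (Matrix.one_mulVec _).symm
    rw [this]; exact one_mem _
  obtain ⟨g, hg, hgw⟩ := hall w hw
  have : T = g * siegel (rootS j c) * g⁻¹ := by
    rw [eq_mul_inv_iff_mul_eq]
    refine Subtype.ext (Matrix.ext_of_mulVec_single fun k => ?_)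
    rw [Submonoid.coe_mul, Submonoid.coe_mul, hT, siegel_rootS, ← Matrix.mulVec_mulVec, ← Matrix.mulVec_mulVec,
      sympTransvection_mulVec, sympTransvection_mulVec, tv_apply, tv_apply, Matrix.mulVec_add,
      Matrix.mulVec_smul, hgw, sympBil_apply, sympBil_apply]
    congr 2
    rw [← hgw, (mem_symplecticGroup_iff_preserves n).1 g.2]
  rw [this]
  exact mul_mem (mul_mem hg (hS _)) (inv_mem hg)

end CfsgLib.KnownB.SpWeil
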