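import Cfsg.Agent.Lib.KnownB.MinDeg.Weil
import Cfsg.Agent.Lib.KnownB.SpWeil.Classify
import Mathlib.RepresentationTheory.Maschke

/-!
# The Weil representations of both parities
-/

set_option autoImplicit false

open Matrix CfsgLib.Classical

noncomputable section

namespace CfsgLib.KnownB.SpWeil

open CfsgLib.MinDeg (symMat siegel siegel_coe siegel_add levi levi_coe levi_siegel congS symMat_eq
  two_ne_zero_of_odd parSpace mem_parSpace parity_apply finrank_parSpace wT wT_unit wT_intertwines wT_mul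
  wRes wRes_apply wRatio wRatio_ne_zero det_wRes_ne_zero intertwiner_unique phaseOp phaseOp_intertwines
  levi_intertwines schr schr_apply Intertwines sym_orbit exists_sym_char sp_degree_bound)

variable {F : Type*} [Field F] [Fintype F] {n : ℕ} {ψ : AddChar F ℂ}
variable (hodd : Odd (Fintype.card F)) (hψ : ψ ≠ 0)

theorem wPar_mul (ε : ℂ) (g h : SpG n F) :
    wRatio hodd hψ (g * h) • wRes hodd hψ ε (g * h) =
      (wRatio hodd hψ g • wRes hodd hψ ε g) * (wRatio hodd hψ h • wRes hodd hψ ε h) := by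
  obtain ⟨c, hc0, hc⟩ := wT_mul hodd hψ g h
  have hres : ∀ ε : ℂ, wRes hodd hψ ε g * wRes hodd hψ ε h = c • wRes hodd hψ ε (g * h) := by
    intro ε
    refine LinearMap.ext fun f => Subtype.ext ?_
    simp only [Module.End.mul_apply, LinearMap.smul_apply, Submodule.coe_smul, wRes_apply]
    rw [← Module.End.mul_apply, hc, LinearMap.smul_apply]
  have hd : ∀ ε : ℂ, LinearMap.det (wRes hodd hψ ε g) * LinearMap.det (wRes hodd hψ ε h) =
      c ^ Module.finrank ℂ (parSpace F n ε) * LinearMap.det (wRes hodd hψ ε (g * h)) := fun ε => by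
    rw [← map_mul, hres ε, LinearMap.det_smul]
  have hr : wRatio hodd hψ g * wRatio hodd hψ h = wRatio hodd hψ (g * h) / c := by
    simp only [wRatio, div_mul_div_comm, hd]
    rw [(finrank_parSpace (two_ne_zero_of_odd hodd)).2, pow_succ]
    have := det_wRes_ne_zero hodd hψ (n := n) 1 (g * h)
    field_simp
  rw [smul_mul_assoc, mul_smul_comm, hres, smul_smul, smul_smul, hr, div_mul_cancel₀ _ hc0]

theorem wPar_one (ε : ℂ) :
    wRatio hodd hψ (1 : SpG n F) • wRes hodd hψ ε (1 : SpG n F) = 1 := by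
  have hu : IsUnit (wRatio hodd hψ (1 : SpG n F) • wRes hodd hψ ε (1 : SpG n F)) := by
    refine (LinearMap.isUnit_iff_isUnit_det _).2 ?_
    rw [LinearMap.det_smul]
    exact (mul_ne_zero (pow_ne_zero _ (wRatio_ne_zero hodd hψ _)) (det_wRes_ne_zero hodd hψ _ _)).isUnit
  have h := wPar_mul hodd hψ ε (1 : SpG n F) 1
  rw [mul_one] at h
  exact (hu.mul_eq_left.1 h.symm)

/-- The Weil representation on the functions of one parity. -/
def weil (ε : ℂ) : Representation ℂ (SpG n F) (parSpace F n ε) where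
  toFun g := wRatio hodd hψ g • wRes hodd hψ ε g
  map_one' := wPar_one hodd hψ ε
  map_mul' g h := wPar_mul hodd hψ ε g h

theorem weil_coe (ε : ℂ) (g : SpG n F) (f : parSpace F n ε) :
    (weil hodd hψ ε g f : (Fin n → F) → ℂ) = wRatio hodd hψ g • wT hodd hψ g f := by
  show ((wRatio hodd hψ g • wRes hodd hψ ε g) f : parSpace F n ε).1 = _
  rw [LinearMap.smul_apply, Submodule.coe_smul, wRes_apply]

/-- A vector of the given parity concentrated at a pair of points. -/
def pair [DecidableEq F] {ε : ℂ} (hε : ε * ε = 1) (x : Fin n → F) : parSpace F n ε :=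
  ⟨fun y => (if y = x then 1 else 0) + ε * (if y = -x then 1 else 0), mem_parSpace.2 (funext fun y => by
    simp only [parity_apply, Pi.smul_apply, smul_eq_mul, neg_eq_iff_eq_neg, neg_inj, mul_add, ← mul_assoc, hε,
      one_mul]
    ring)⟩

theorem ne_neg_self (hodd : Odd (Fintype.card F)) {x : Fin n → F} (hx : x ≠ 0) : x ≠ -x := fun e => by
  obtain ⟨i, hi⟩ := Function.ne_iff.1 hx
  refine mul_ne_zero (two_ne_zero_of_odd hodd) hi ?_
  have := congrFun e i
  rw [Pi.neg_apply] at this
  show (2 : F) * x i = 0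
  linear_combination this

theorem pair_self [DecidableEq F] {ε : ℂ} (hε : ε * ε = 1) (hodd : Odd (Fintype.card F)) {x : Fin n → F}
    (hx : x ≠ 0) : (pair hε x : (Fin n → F) → ℂ) x = 1 := by
  simp [pair, ne_neg_self hodd hx]

theorem siegel_scalar (S : symMat F n) :
    ∃ μ : ℂ, μ ≠ 0 ∧ ∀ (ε : ℂ) (f : parSpace F n ε) (x : Fin n → F),
      (weil hodd hψ ε (siegel S) f : (Fin n → F) → ℂ) x =
        μ * (ψ (-(x ⬝ᵥ (S : Matrix (Fin n) (Fin n) F) *ᵥ x) / 2) * (f : (Fin n → F) → ℂ) x) := by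
  obtain ⟨c, hc⟩ := intertwiner_unique hψ (wT_unit hodd hψ (siegel S)) (wT_intertwines hodd hψ (siegel S))
    (phaseOp_intertwines hodd (ψ := ψ) S)
  have hc0 : c ≠ 0 := by
    rintro rfl
    rw [zero_smul] at hc
    have := congrFun (LinearMap.congr_fun hc fun _ => (1 : ℂ)) 0
    simp [phaseOp] at this
  refine ⟨wRatio hodd hψ (siegel S) / c, div_ne_zero (wRatio_ne_zero hodd hψ _) hc0, fun ε f x => ?_⟩
  rw [weil_coe]
  have := congrFun (LinearMap.congr_fun hc (f : (Fin n → F) → ℂ)) x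
  rw [LinearMap.smul_apply, Pi.smul_apply, smul_eq_mul] at this
  show wRatio hodd hψ (siegel S) * wT hodd hψ (siegel S) (f : (Fin n → F) → ℂ) x =
    _ * phaseOp ψ S (f : (Fin n → F) → ℂ) x
  rw [this]
  field_simp

theorem levi_scalar (A : GL (Fin n) F) :
    ∃ κ : ℂ, κ ≠ 0 ∧ ∀ (ε : ℂ) (f : parSpace F n ε) (x : Fin n → F),
      (weil hodd hψ ε (levi A) f : (Fin n → F) → ℂ) x =
        κ * (f : (Fin n → F) → ℂ) ((A : Matrix (Fin n) (Fin n) F)ᵀ *ᵥ x) := by
  obtain ⟨c, hc⟩ := intertwiner_unique hψ (wT_unit hodd hψ (levi A)) (wT_intertwines hodd hψ (levi A))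
    (levi_intertwines (ψ := ψ) A)
  have hc0 : c ≠ 0 := by
    rintro rfl
    rw [zero_smul] at hc
    simpa using congrFun (LinearMap.congr_fun hc fun _ => (1 : ℂ)) 0
  refine ⟨wRatio hodd hψ (levi A) / c, div_ne_zero (wRatio_ne_zero hodd hψ _) hc0, fun ε f x => ?_⟩
  rw [weil_coe]
  have := congrFun (LinearMap.congr_fun hc (f : (Fin n → F) → ℂ)) x
  rw [LinearMap.smul_apply, Pi.smul_apply, smul_eq_mul, LinearMap.funLeft_apply] at this
  show wRatio hodd hψ (levi A) * wT hodd hψ (levi A) (f : (Fin n → F) → ℂ) x = _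
  rw [this]
  field_simp

variable (hn : 2 ≤ n)

include hn in
/-- The Siegel subgroup acts by the quadratic phases. -/
theorem weil_siegel (ε : ℂ) (S : symMat F n) (f : parSpace F n ε) (x : Fin n → F) :
    (weil hodd hψ ε (siegel S) f : (Fin n → F) → ℂ) x =
      ψ (-(x ⬝ᵥ (S : Matrix (Fin n) (Fin n) F) *ᵥ x) / 2) * (f : (Fin n → F) → ℂ) x := by
  classical
  choose μ hμ0 hμ using siegel_scalar hodd hψ (n := n)
  let i : Fin n := ⟨0, by omega⟩
  have he : (Pi.single i (1 : F) : Fin n → F) ≠ 0 := by simp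
  have hε : (-1 : ℂ) * -1 = 1 := by ring
  let g := pair (n := n) hε (Pi.single i (1 : F))
  have hg : (g : (Fin n → F) → ℂ) (Pi.single i (1 : F)) = 1 := pair_self hε hodd he
  -- the scalar is an invariant character
  have hadd : ∀ S T, μ (S + T) = μ S * μ T := by
    intro S T
    have e : weil hodd hψ (-1) (siegel (S + T)) g = weil hodd hψ (-1) (siegel S) (weil hodd hψ (-1) (siegel T) g) := by
      rw [siegel_add, map_mul, Module.End.mul_apply]
    have e' := congrFun (congrArg Subtype.val e) (Pi.single i (1 : F))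
    rw [hμ, hμ, hμ, hg] at e'
    simp only [AddSubgroup.coe_add, Matrix.add_mulVec, dotProduct_add, neg_add, add_div,
      AddChar.map_add_eq_mul] at e'
    have h1 : ∀ a, ψ a ≠ 0 := fun a => (ψ.val_isUnit a).ne_zero
    apply mul_right_cancel₀ (mul_ne_zero
      (h1 (-(Pi.single i (1 : F) ⬝ᵥ (S : Matrix (Fin n) (Fin n) F) *ᵥ Pi.single i (1 : F)) / 2))
      (h1 (-(Pi.single i (1 : F) ⬝ᵥ (T : Matrix (Fin n) (Fin n) F) *ᵥ Pi.single i (1 : F)) / 2)))
    linear_combination e'
  have hinv : ∀ (A : GL (Fin n) F) T, μ (congS (A : Matrix (Fin n) (Fin n) F) T) = μ T := by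
    intro A T
    obtain ⟨κ, hκ0, hκ⟩ := levi_scalar hodd hψ A
    let x := ((A⁻¹ : GL (Fin n) F) : Matrix (Fin n) (Fin n) F)ᵀ *ᵥ Pi.single i (1 : F)
    have hx : (A : Matrix (Fin n) (Fin n) F)ᵀ *ᵥ x = Pi.single i (1 : F) := by
      rw [Matrix.mulVec_mulVec, CfsgLib.MinDeg.gl_inv_mul_transpose, Matrix.one_mulVec]
    have e : weil hodd hψ (-1) (levi A) (weil hodd hψ (-1) (siegel T) g) =
        weil hodd hψ (-1) (siegel (congS (A : Matrix (Fin n) (Fin n) F) T)) (weil hodd hψ (-1) (levi A) g) := by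
      rw [act_mul, act_mul, levi_siegel]
    have e' := congrFun (congrArg Subtype.val e) x
    rw [hκ, hμ, hμ, hκ, hx, hg] at e'
    have hq : x ⬝ᵥ (congS (A : Matrix (Fin n) (Fin n) F) T : Matrix (Fin n) (Fin n) F) *ᵥ x =
        Pi.single i (1 : F) ⬝ᵥ (T : Matrix (Fin n) (Fin n) F) *ᵥ Pi.single i (1 : F) := by
      rw [← hx]
      show _ ⬝ᵥ (_ * _ * _) *ᵥ _ = _
      rw [← Matrix.mulVec_mulVec, ← Matrix.mulVec_mulVec, Matrix.dotProduct_mulVec, ← Matrix.mulVec_transpose]
    rw [hq] at e'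
    symm
    apply mul_right_cancel₀ (mul_ne_zero hκ0
      (ψ.val_isUnit (-(Pi.single i (1 : F) ⬝ᵥ (T : Matrix (Fin n) (Fin n) F) *ᵥ Pi.single i (1 : F)) / 2)).ne_zero)
    linear_combination e'
  let M : AddChar (symMat F n) ℂ :=
    { toFun := μ
      map_zero_eq_one' := by
        have := hadd 0 0
        rw [add_zero] at this
        exact mul_left_cancel₀ (hμ0 0) (this.symm.trans (mul_one _).symm)
      map_add_eq_mul' := hadd }
  obtain ⟨B, hB⟩ := exists_sym_char hodd hψ M
  have hB0 : (B : Matrix (Fin n) (Fin n) F) = 0 := by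
    by_contra hne
    obtain ⟨O, hO, hOA⟩ := sym_orbit hodd B.2 hne
    have hsub : O ⊆ {(B : Matrix (Fin n) (Fin n) F)} := fun M' hM' => by
      obtain ⟨A, rfl⟩ := hOA M' hM'
      let B' : symMat F n := ⟨(A : Matrix (Fin n) (Fin n) F)ᵀ * B * A, by
        show (_)ᵀ = _
        rw [transpose_mul, transpose_mul, transpose_transpose, symMat_eq, Matrix.mul_assoc]⟩
      refine Set.mem_singleton_iff.2 (congrArg Subtype.val
        (chi_inj hodd hψ (a₁ := B') (a₂ := B) (DFunLike.ext _ _ fun T => ?_)))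
      rw [chi_apply, chi_apply, ← hB, show M T = μ T from rfl, ← hinv A T, show μ _ = M _ from rfl, hB]
      congr 1
      show _ = Matrix.trace (_ * (_ * _ * _))
      simp only [B']
      conv_rhs => rw [← Matrix.mul_assoc, Matrix.trace_mul_comm]
      simp only [Matrix.mul_assoc]
    have h1 := hO.trans ((Set.ncard_le_ncard hsub (Set.toFinite _)).trans (Set.ncard_singleton _).le)
    have h9 : 9 ≤ Fintype.card F ^ n := by
      have h3 : 3 ≤ Fintype.card F := by
        have := Fintype.one_lt_card (α := F)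
        obtain ⟨r, hr⟩ := hodd
        omega
      calc 9 = 3 ^ 2 := rfl
        _ ≤ Fintype.card F ^ 2 := Nat.pow_le_pow_left h3 2
        _ ≤ Fintype.card F ^ n := Nat.pow_le_pow_right Fintype.card_pos hn
    omega
  rw [hμ]
  have : μ S = 1 := by
    rw [show μ S = M S from rfl, hB, hB0]
    simp
  rw [this, one_mul]

include hn in
/-- No vector is fixed. -/
theorem no_fixed {ε : ℂ} (f : parSpace F n ε) (hf : ∀ g, weil hodd hψ ε g f = f) : f = 0 := by
  classical
  have hsupp : ∀ x, x ≠ 0 → (f : (Fin n → F) → ℂ) x = 0 := by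
    intro x hx
    by_contra hfx
    have h1 : chi ψ (rk1 (-1 / 2 : F) x : Matrix (Fin n) (Fin n) F) = chi ψ ((rk1 (-1 / 2 : F) (0 : Fin n → F) : symMat F n) : Matrix (Fin n) (Fin n) F) := by
      refine DFunLike.ext _ _ fun S => ?_
      have := congrFun (congrArg Subtype.val (hf (siegel S))) x
      rw [weil_siegel hodd hψ hn] at this
      have h2 : ψ (-(x ⬝ᵥ (S : Matrix (Fin n) (Fin n) F) *ᵥ x) / 2) = 1 :=
        mul_right_cancel₀ hfx (this.trans (one_mul _).symm)
      rw [chi_apply, chi_apply, rk1_zero, Matrix.zero_mul, Matrix.trace_zero, AddChar.map_zero_eq_one, ← h2]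
      congr 1
      rw [show (rk1 (-1 / 2 : F) x : Matrix (Fin n) (Fin n) F) = (-1 / 2 : F) • vecMulVec x x from rfl,
        Matrix.smul_mul, Matrix.trace_smul, Matrix.vecMulVec_mul, Matrix.trace_vecMulVec, smul_eq_mul,
        ← Matrix.mulVec_transpose, symMat_eq]
      ring
    obtain ⟨i, hi⟩ := Function.ne_iff.1 hx
    have := congrArg (fun B : symMat F n => (B : Matrix (Fin n) (Fin n) F) i i) (chi_inj hodd hψ h1)
    simp [rk1_apply, two_ne_zero_of_odd hodd] at this
    exact hi this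
  by_contra hne
  have h0 : (f : (Fin n → F) → ℂ) 0 ≠ 0 := fun h => hne (Subtype.ext (funext fun x => by
    by_cases hx : x = 0
    · subst hx; exact h
    · exact hsupp x hx))
  let g : SpG n F := ⟨Matrix.J (Fin n) F, SymplecticGroup.J_mem _ _⟩
  let i : Fin n := ⟨0, by omega⟩
  let v : Fin n ⊕ Fin n → F := Sum.elim (Pi.single i 1) 0
  have h1 : schr ψ v (f : (Fin n → F) → ℂ) = f := by
    funext x
    simp only [schr_apply, v, Sum.elim_comp_inl, Sum.elim_comp_inr, zero_dotProduct, zero_div, add_zero]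
    by_cases hx : x = 0
    · subst hx; simp
    · rw [hsupp x hx, mul_zero]
  have h2 := congrArg Subtype.val (hf g)
  rw [weil_coe] at h2
  have h3 := LinearMap.congr_fun (wT_intertwines hodd hψ g v) (f : (Fin n → F) → ℂ)
  rw [Module.End.mul_apply, Module.End.mul_apply, h1] at h3
  have h4 := congrArg (fun u => wRatio hodd hψ g • u) h3
  simp only [← LinearMap.map_smul, h2] at h4
  have hgv : (g : Matrix (Fin n ⊕ Fin n) (Fin n ⊕ Fin n) F) *ᵥ v = Sum.elim (0 : Fin n → F) (Pi.single i (1 : F)) := by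
    show Matrix.J (Fin n) F *ᵥ Sum.elim (Pi.single i (1 : F)) (0 : Fin n → F) = _
    rw [Matrix.J, Matrix.fromBlocks_mulVec, Sum.elim_comp_inl, Sum.elim_comp_inr]
    funext r
    rcases r with r | r <;> simp [Matrix.one_apply, Pi.single_apply]
  rw [hgv] at h4
  have h5 := congrFun h4 0
  rw [schr_apply, Sum.elim_comp_inr, zero_add, hsupp (Pi.single i 1) (by simp), mul_zero] at h5
  exact h0 h5

include hn in
theorem weil_irreducible {ε : ℂ} (hε : ε = 1 ∨ ε = -1) : (weil (n := n) hodd hψ ε).IsIrreducible := by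
  classical
  obtain ⟨hfr, hfr'⟩ := finrank_parSpace (F := F) (n := n) (two_ne_zero_of_odd hodd)
  have h3 : 3 ≤ Fintype.card F := by
    have := Fintype.one_lt_card (α := F)
    obtain ⟨r, hr⟩ := hodd
    omega
  have h9 : 9 ≤ Fintype.card F ^ n :=
    calc 9 = 3 ^ 2 := rfl
      _ ≤ Fintype.card F ^ 2 := Nat.pow_le_pow_left h3 2
      _ ≤ Fintype.card F ^ n := Nat.pow_le_pow_right Fintype.card_pos hn
  have hdim : Module.finrank ℂ (parSpace F n ε) ≤ (Fintype.card F ^ n - 1) / 2 + 1 ∧
      0 < Module.finrank ℂ (parSpace F n ε) := by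
    rcases hε with rfl | rfl <;> omega
  have : Nontrivial (parSpace F n ε) := Module.nontrivial_of_finrank_pos (R := ℂ) hdim.2
  refine CfsgLib.CharDeep.IrrTools.isIrreducible_of_forall _ fun U hU => ?_
  have key : ∀ S : Subrepresentation (weil (n := n) hodd hψ ε), S.toSubmodule ≠ ⊥ →
      (Fintype.card F ^ n - 1) / 2 ≤ Module.finrank ℂ S.toSubmodule := by
    intro S hS
    let ρS : Representation ℂ (symplecticGroup (Fin n) F) S.toSubmodule :=
      { toFun := fun g => (weil hodd hψ ε g).restrict (S.apply_mem_toSubmodule g)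
        map_one' := LinearMap.ext fun u => Subtype.ext (by simp)
        map_mul' := fun g h => LinearMap.ext fun u => Subtype.ext (by simp) }
    refine sp_degree_bound (F := F) (n := n) (V := ↥S.toSubmodule) (by omega) hodd ρS fun hker => ?_
    obtain ⟨f, hf, hf0⟩ := Submodule.exists_mem_ne_zero_of_ne_bot hS
    refine hf0 (no_fixed hodd hψ hn f fun g => ?_)
    have h : ρS g = 1 := MonoidHom.mem_ker.1 (hker ▸ Subgroup.mem_top g)
    exact congrArg Subtype.val (LinearMap.congr_fun h ⟨f, hf⟩)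
  have : NeZero (Nat.card (SpG n F) : ℂ) := ⟨Nat.cast_ne_zero.2 Nat.card_pos.ne'⟩
  let S : Subrepresentation (weil (n := n) hodd hψ ε) := ⟨U, fun g u hu => hU g u hu⟩
  obtain ⟨T, hT⟩ := ComplementedLattice.exists_isCompl S
  have hi : U ⊓ T.toSubmodule = ⊥ := congrArg Subrepresentation.toSubmodule hT.inf_eq_bot
  have hs : U ⊔ T.toSubmodule = ⊤ := congrArg Subrepresentation.toSubmodule hT.sup_eq_top
  have hsum := Submodule.finrank_sup_add_finrank_inf_eq U T.toSubmodule
  rw [hi, hs, finrank_bot, finrank_top] at hsum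
  by_cases hU0 : U = ⊥
  · exact Or.inl hU0
  right
  have h1 := key S hU0
  by_cases hT0 : T.toSubmodule = ⊥
  · rwa [hT0, sup_bot_eq] at hs
  have h2 := key T hT0
  simp only [S] at h1
  omega

include hn in
/-- The representations of the two classes of additive characters are inequivalent. -/
theorem weil_distinct {ε : ℂ} (hε : ε = 1 ∨ ε = -1) {ν : F} (hν : ¬IsSquare ν)
    (hψ' : AddChar.mulShift ψ ν ≠ 0) :
    (weil (n := n) hodd hψ ε).character ≠ (weil (n := n) hodd hψ' ε).character := by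
  classical
  intro hchar
  have := weil_irreducible hodd hψ hn hε
  obtain ⟨E⟩ := CfsgLib.CharDeep.IrrTools.nonempty_equiv_of_character_eq _ _ hchar.symm
  have hεε : ε * ε = 1 := by rcases hε with rfl | rfl <;> ring
  let i : Fin n := ⟨0, by omega⟩
  have he : (Pi.single i (1 : F) : Fin n → F) ≠ 0 := by simp
  let f := pair hεε (Pi.single i (1 : F))
  have hfS : ∀ S : symMat F n, weil hodd hψ ε (siegel S) f =
      ψ (-(Pi.single i (1 : F) ⬝ᵥ (S : Matrix (Fin n) (Fin n) F) *ᵥ Pi.single i (1 : F)) / 2) • f := by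
    intro S
    refine Subtype.ext (funext fun x => ?_)
    rw [weil_siegel hodd hψ hn, Submodule.coe_smul, Pi.smul_apply, smul_eq_mul]
    by_cases h1 : x = Pi.single i (1 : F)
    · rw [h1]
    by_cases h2 : x = -Pi.single i (1 : F)
    · rw [h2]; simp [Matrix.mulVec_neg]
    simp [f, pair, h1, h2]
  have hf0 : f ≠ 0 := fun h => by
    have := pair_self hεε hodd he
    rw [show pair hεε (Pi.single i (1 : F)) = f from rfl, h] at this
    simp at this
  obtain ⟨x, hx⟩ := Function.ne_iff.1 (fun h => hf0 (E.toLinearEquiv.map_eq_zero_iff.1 (Subtype.ext h)) :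
    (E.toLinearEquiv f : (Fin n → F) → ℂ) ≠ 0)
  have hchi : chi ψ (rk1 (-ν / 2) x : Matrix (Fin n) (Fin n) F) =
      chi ψ (rk1 (-1 / 2 : F) (Pi.single i (1 : F)) : Matrix (Fin n) (Fin n) F) := by
    refine DFunLike.ext _ _ fun S => ?_
    have h1 : E.toLinearEquiv (weil hodd hψ ε (siegel S) f) = weil hodd hψ' ε (siegel S) (E.toLinearEquiv f) :=
      LinearMap.congr_fun (E.toIntertwiningMap.isIntertwining' (siegel S)) f
    rw [hfS, map_smul] at h1
    have h2 := congrFun (congrArg Subtype.val h1) x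
    rw [Submodule.coe_smul, Pi.smul_apply, smul_eq_mul, weil_siegel hodd hψ' hn, AddChar.mulShift_apply] at h2
    have h3 := mul_right_cancel₀ hx h2
    have e : ∀ (c : F) (y : Fin n → F), Matrix.trace ((rk1 c y : Matrix (Fin n) (Fin n) F) *
        (S : Matrix (Fin n) (Fin n) F)) = c * (y ⬝ᵥ (S : Matrix (Fin n) (Fin n) F) *ᵥ y) := fun c y => by
      rw [show (rk1 c y : Matrix (Fin n) (Fin n) F) = c • vecMulVec y y from rfl, Matrix.smul_mul,
        Matrix.trace_smul, Matrix.vecMulVec_mul, Matrix.trace_vecMulVec, smul_eq_mul,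
        ← Matrix.mulVec_transpose, symMat_eq]
    rw [chi_apply, chi_apply, e, e]
    convert h3.symm using 2 <;> ring
  have h4 := congrArg (fun B : symMat F n => (B : Matrix (Fin n) (Fin n) F) i i) (chi_inj hodd hψ hchi)
  simp [rk1_apply] at h4
  have h2 := two_ne_zero_of_odd hodd
  field_simp at h4
  have hxi : x i ≠ 0 := fun h => by simp [h] at h4
  exact hν ⟨(x i)⁻¹, by field_simp; linear_combination -h4⟩

end CfsgLib.KnownB.SpWeil
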