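import Cfsg.Agent.Lib.KnownB.SpWeil.Weights

/-!
# Representations of the symplectic group with all weights of rank at most one

A weight vector of the rank one matrix of the first basis vector generates a subrepresentation meeting
that weight space in a line.
-/

set_option autoImplicit false

open Matrix CfsgLib.Classical

noncomputable section

namespace CfsgLib.KnownB.SpWeil

open CfsgLib.MinDeg (symMat siegel siegel_coe siegel_add levi levi_coe rootS levi_siegel congS symMat_eq
  weightSpace mem_weightSpace exists_sym_char two_ne_zero_of_odd)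

variable {F : Type*} [Field F]

/-- A block diagonal embedding. -/
def phi (m : ℕ) : Matrix (Fin m) (Fin m) F →* Matrix (Fin (m + 1)) (Fin (m + 1)) F where
  toFun M := Matrix.of (Fin.cons (Fin.cons 1 0) fun p => Fin.cons 0 (M p))
  map_one' := by
    ext a b
    refine Fin.cases ?_ (fun a => ?_) a <;> refine Fin.cases ?_ (fun b => ?_) b <;>
      simp [Matrix.one_apply, (Fin.succ_ne_zero _).symm]
  map_mul' M N := by
    ext a b
    refine Fin.cases ?_ (fun a => ?_) a <;> refine Fin.cases ?_ (fun b => ?_) b <;>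
      simp [Matrix.mul_apply, Fin.sum_univ_succ]

theorem phi_zero {m : ℕ} (M : Matrix (Fin m) (Fin m) F) (b : Fin (m + 1)) :
    phi m M 0 b = if b = 0 then 1 else 0 := by
  refine Fin.cases ?_ (fun b => ?_) b <;> simp [phi]

theorem phi_succ_zero {m : ℕ} (M : Matrix (Fin m) (Fin m) F) (a : Fin m) : phi m M a.succ 0 = 0 := by
  simp [phi]

theorem phi_succ_succ {m : ℕ} (M : Matrix (Fin m) (Fin m) F) (a b : Fin m) :
    phi m M a.succ b.succ = M a b := by
  simp [phi]

theorem phi_transvection {m : ℕ} (p q : Fin m) (t : F) :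
    phi m (Matrix.transvection p q t) = Matrix.transvection p.succ q.succ t := by
  ext a b
  refine Fin.cases ?_ (fun a => ?_) a <;> refine Fin.cases ?_ (fun b => ?_) b <;>
    simp [phi, Matrix.transvection, Matrix.one_apply, Matrix.single_apply, (Fin.succ_ne_zero _).symm]

theorem phi_diagonal {m : ℕ} (d : Fin m → F) :
    phi m (Matrix.diagonal d) = Matrix.diagonal (Fin.cons 1 d) := by
  ext a b
  refine Fin.cases ?_ (fun a => ?_) a <;> refine Fin.cases ?_ (fun b => ?_) b <;>
    simp [phi, Matrix.diagonal_apply, (Fin.succ_ne_zero _).symm]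

theorem dg_mul {n : ℕ} (d d' : Fin n → Fˣ) : (dg d * dg d' : GL (Fin n) F) = dg (d * d') := by
  refine Units.ext ?_
  rw [Units.val_mul, dg_coe, dg_coe, dg_coe, Matrix.diagonal_mul_diagonal]
  simp

theorem dg_one {n : ℕ} : (dg (1 : Fin n → Fˣ) : GL (Fin n) F) = 1 := Units.ext (by simp [dg_coe])

theorem fj_comm_fj {n : ℕ} {i j : Fin n} (h : i ≠ j) : fj (F := F) i * fj j = fj j * fj i := by
  refine Subtype.ext ?_
  rw [Submonoid.coe_mul, Submonoid.coe_mul, fj_coe, fj_coe, Matrix.fromBlocks_multiply,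
    Matrix.fromBlocks_multiply]
  simp [eId, Matrix.mul_sub, Matrix.sub_mul, h, h.symm]
  refine ⟨?_, ?_, ?_, ?_⟩ <;> abel

variable [Fintype F] {m : ℕ} {V : Type*} [AddCommGroup V] [Module ℂ V]
variable {ρ : Representation ℂ (SpG (m + 1) F) V} {ψ : AddChar F ℂ}

local notation "Mat" => Matrix (Fin (m + 1)) (Fin (m + 1)) F
local notation "e₀" => (Pi.single 0 1 : Fin (m + 1) → F)

variable (hodd : Odd (Fintype.card F)) (hψ : ψ ≠ 0) (hR : RankOne ρ ψ)
  (hcen : ∃ ε : ℂ, ∀ v, ρ (levi (dg (fun _ => -1))) v = ε • v)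

/-- Scalar on the multiplicity space. -/
def Scal (ρ : Representation ℂ (SpG (m + 1) F) V) (ψ : AddChar F ℂ) (c : F) (A : GL (Fin (m + 1)) F) : Prop :=
  ∃ κ : ℂ, ∀ v ∈ W ρ ψ c e₀, ρ (levi A) v = κ • v

theorem Scal.mul {c : F} {A B : GL (Fin (m + 1)) F} (hA : Scal ρ ψ c A) (hB : Scal ρ ψ c B) :
    Scal ρ ψ c (A * B) := by
  obtain ⟨a, ha⟩ := hA
  obtain ⟨b, hb⟩ := hB
  exact ⟨b * a, fun v hv => by rw [levi_mul, ← act_mul, hb v hv, map_smul, ha v hv, smul_smul]⟩

theorem scal_one {c : F} : Scal ρ ψ c (1 : GL (Fin (m + 1)) F) :=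
  ⟨1, fun v _ => by rw [levi_one, map_one, Module.End.one_apply, one_smul]⟩

include hodd hψ hR

theorem scal_tv {c : F} {p q : Fin (m + 1)} (h : p ≠ q) (hp : p ≠ 0) (t : F) : Scal ρ ψ c (tv p q h t) :=
  ⟨1, fun v hv => by rw [tv_fix hodd hψ hR h t (by simp [hp]) hv, one_smul]⟩

theorem scal_dg {c : F} (hc : c ≠ 0) (d : Fin (m + 1) → Fˣ) (hd : d 0 = 1) : Scal ρ ψ c (dg d) := by
  classical
  have key : ∀ S : Finset (Fin (m + 1)), Scal ρ ψ c (dg (S.piecewise d 1)) := fun S => by
    induction S using Finset.induction_on with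
    | empty => rw [Finset.piecewise_empty, dg_one]; exact scal_one
    | insert a S ha ih =>
      have e : (insert a S).piecewise d 1 =
          Function.update (1 : Fin (m + 1) → Fˣ) a (d a) * S.piecewise d 1 := by
        funext i
        by_cases hi : i = a
        · subst hi; simp [Finset.piecewise, ha]
        · simp [Finset.piecewise, hi, Function.update_of_ne]
      rw [e, ← dg_mul]
      refine Scal.mul ?_ ih
      by_cases h0 : a = 0
      · subst h0
        rw [hd, Function.update_eq_self_iff.2 (by simp), dg_one]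
        exact scal_one
      · obtain ⟨τ, -, -, hb⟩ := fourier hodd hψ hR (Ne.symm h0) hc
        exact hb (d a)
  simpa using key Finset.univ

set_option maxHeartbeats 2000000 in
theorem scal_phi {c : F} (hc : c ≠ 0) (N : GL (Fin m) F) : Scal ρ ψ c (Units.map (phi m) N) := by
  classical
  suffices key : ∀ M : Matrix (Fin m) (Fin m) F, M.det ≠ 0 → ∀ N : GL (Fin m) F,
      (N : Matrix (Fin m) (Fin m) F) = M → Scal ρ ψ c (Units.map (phi m) N) from
    key _ (Matrix.isUnit_iff_isUnit_det _ |>.1 N.isUnit).ne_zero N rfl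
  intro M hMdet
  refine Matrix.diagonal_transvection_induction_of_det_ne_zero
    (fun M => ∀ N : GL (Fin m) F, (N : Matrix (Fin m) (Fin m) F) = M → Scal ρ ψ c (Units.map (phi m) N))
    M hMdet (fun d hd N hN => ?_) (fun t N hN => ?_) fun M₁ M₂ h1 h2 i1 i2 N hN => ?_
  · have hd' : ∀ i, d i ≠ 0 := fun i => by
      rw [Matrix.det_diagonal] at hd
      exact Finset.prod_ne_zero_iff.1 hd i (Finset.mem_univ i)
    have e : Units.map (phi m) N = dg (Fin.cons 1 fun i => Units.mk0 (d i) (hd' i)) := by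
      refine Units.ext ?_
      rw [Units.coe_map, hN, dg_coe, phi_diagonal]
      congr 1
      funext i
      refine Fin.cases ?_ (fun i => ?_) i <;> simp
    rw [e]
    exact scal_dg hodd hψ hR hc _ (by simp)
  · obtain ⟨p, q, hpq, t⟩ := t
    have e : Units.map (phi m) N = tv p.succ q.succ (fun h => hpq (Fin.succ_injective _ h)) t := by
      refine Units.ext ?_
      rw [Units.coe_map, hN, tv_coe]
      exact phi_transvection p q t
    rw [e]
    exact scal_tv hodd hψ hR _ (Fin.succ_ne_zero p) _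
  · have u1 := (Matrix.isUnit_iff_isUnit_det M₁).2 (isUnit_iff_ne_zero.2 h1)
    have u2 := (Matrix.isUnit_iff_isUnit_det M₂).2 (isUnit_iff_ne_zero.2 h2)
    have e : N = u1.unit * u2.unit :=
      Units.ext (by rw [Units.val_mul, hN, IsUnit.unit_spec, IsUnit.unit_spec])
    rw [e, map_mul]
    exact (i1 _ u1.unit_spec).mul (i2 _ u2.unit_spec)

include hcen

/-- The stabiliser of the weight acts by scalars. -/
theorem stab_scalar {c : F} (hc : c ≠ 0) (A : GL (Fin (m + 1)) F)
    (hA : (A : Mat)ᵀ *ᵥ e₀ = e₀ ∨ (A : Mat)ᵀ *ᵥ e₀ = -e₀) : Scal ρ ψ c A := by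
  classical
  suffices key : ∀ A : GL (Fin (m + 1)) F, (A : Mat)ᵀ *ᵥ e₀ = e₀ → Scal ρ ψ c A by
    rcases hA with hA | hA
    · exact key A hA
    set h0 : Fin (m + 1) → Fˣ := Function.update 1 0 (-1) with hh0
    have hh : Scal ρ ψ c (dg h0) := by
      obtain ⟨ε, hε⟩ := hcen
      obtain ⟨κ, hκ⟩ := scal_dg hodd hψ hR hc (fun i => if i = 0 then 1 else -1) (by simp)
      refine ⟨ε * κ, fun v hv => ?_⟩
      have e : dg h0 = dg (fun _ => -1) * dg (fun i => if i = 0 then (1 : Fˣ) else -1) := by
        rw [dg_mul]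
        congr 1
        funext i
        by_cases hi : i = 0 <;> simp [hh0, hi, Function.update_of_ne]
      rw [e, levi_mul, ← act_mul, hκ v hv, map_smul, hε, smul_smul, mul_comm]
    have h2 : dg h0 * dg h0 = (1 : GL (Fin (m + 1)) F) := by
      rw [dg_mul, ← dg_one]
      congr 1
      funext i
      by_cases hi : i = 0 <;> simp [hh0, hi, Function.update_of_ne]
    rw [show A = dg h0 * (dg h0 * A) by rw [← mul_assoc, h2, one_mul]]
    refine hh.mul (key _ ?_)
    rw [Units.val_mul, Matrix.transpose_mul, ← Matrix.mulVec_mulVec, dg_coe, Matrix.diagonal_transpose]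
    have : (Matrix.diagonal fun i => (h0 i : F)) *ᵥ e₀ = -e₀ := by
      funext i
      rw [Matrix.mulVec_diagonal]
      by_cases hi : i = 0 <;> simp [hh0, hi]
    rw [this, Matrix.mulVec_neg, hA, neg_neg]
  intro A hA
  have hrow : ∀ q, (A : Mat) 0 q = if q = 0 then 1 else 0 := fun q => by
    have := congrFun hA q
    simpa [Pi.single_apply] using this
  -- clear the first column
  have hL : ∀ S : Finset (Fin (m + 1)), 0 ∉ S → ∃ U : GL (Fin (m + 1)) F,
      (U : Mat) = 1 + ∑ p ∈ S, Matrix.single p 0 ((A : Mat) p 0) ∧ Scal ρ ψ c U := fun S => by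
    induction S using Finset.induction_on with
    | empty => exact fun _ => ⟨1, by simp, scal_one⟩
    | insert a S ha ih =>
      intro h0
      rw [Finset.mem_insert, not_or] at h0
      obtain ⟨U, hU, hUs⟩ := ih h0.2
      refine ⟨U * tv a 0 (Ne.symm h0.1) ((A : Mat) a 0), ?_, hUs.mul (scal_tv hodd hψ hR _ (Ne.symm h0.1) _)⟩
      rw [Units.val_mul, hU, tv_coe, Matrix.transvection, Finset.sum_insert ha, Matrix.add_mul, Matrix.one_mul,
        Matrix.mul_add, Matrix.mul_one, Finset.sum_mul, Finset.sum_eq_zero (fun p _ => Matrix.single_mul_single_of_ne ((A : Mat) p 0) p 0 a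
          (fun e => h0.1 e) ((A : Mat) a 0))]
      abel
  obtain ⟨U, hU, hUs⟩ := hL ((Finset.univ : Finset (Fin (m + 1))).erase 0) (Finset.notMem_erase _ _)
  set M : Matrix (Fin m) (Fin m) F := Matrix.of fun p q => (A : Mat) p.succ q.succ with hM
  have hUA : (A : Mat) = (U : Mat) * phi m M := by
    rw [hU]
    ext a b
    rw [Matrix.add_mul, Matrix.one_mul, Matrix.add_apply, Matrix.sum_mul, Matrix.sum_apply]
    have hs : ∀ p, ((Matrix.single p 0 ((A : Mat) p 0) : Mat) * phi m M) a b =
        if a = p then (if b = 0 then (A : Mat) p 0 else 0) else 0 := fun p => by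
      by_cases hap : a = p
      · subst hap
        rw [Matrix.single_mul_apply_same, if_pos rfl]
        rw [phi_zero, mul_ite, mul_one, mul_zero]
      · rw [Matrix.single_mul_apply_of_ne _ _ _ _ _ hap, if_neg hap]
    simp only [hs, Finset.sum_ite_eq, Finset.mem_erase, Finset.mem_univ, and_true]
    refine Fin.cases ?_ (fun a => ?_) a <;> refine Fin.cases ?_ (fun b => ?_) b <;>
      simp [phi_zero, phi_succ_zero, phi_succ_succ, hrow, M]
  have hMdet : M.det ≠ 0 := by
    have h1 : (A : Mat).det ≠ 0 := (Matrix.isUnit_iff_isUnit_det _ |>.1 A.isUnit).ne_zero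
    rw [hUA, Matrix.det_mul] at h1
    have h2 : (phi m M).det ≠ 0 := right_ne_zero_of_mul h1
    have h3 : (phi m M).submatrix Fin.succ Fin.succ = M := by
      ext a b; exact phi_succ_succ M a b
    rw [Matrix.det_succ_row_zero, Fin.sum_univ_succ, Finset.sum_eq_zero (fun i _ => by
      rw [phi_zero, if_neg (Fin.succ_ne_zero i), mul_zero, zero_mul]), add_zero, phi_zero, if_pos rfl,
      Fin.succAbove_zero, h3] at h2
    simpa using h2
  have e : A = U * Units.map (phi m) ((Matrix.isUnit_iff_isUnit_det M).2 (isUnit_iff_ne_zero.2 hMdet)).unit :=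
    Units.ext (by rw [Units.val_mul, Units.coe_map, IsUnit.unit_spec]; exact hUA)
  rw [e]
  exact hUs.mul (scal_phi hodd hψ hR hc _)

end CfsgLib.KnownB.SpWeil
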