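import Cfsg.Agent.Lib.KnownB.SpWeil.Gens

/-!
# Weights of the Siegel subgroup in representations of the symplectic group, and their behaviour under
# one Fourier element when all of them have rank at most one
-/

set_option autoImplicit false

open Matrix CfsgLib.Classical

noncomputable section

namespace CfsgLib.KnownB.SpWeil

open CfsgLib.MinDeg (symMat siegel siegel_coe siegel_add levi levi_coe rootS levi_siegel congS symMat_eq
  weightSpace mem_weightSpace exists_sym_char two_ne_zero_of_odd u_zero)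

variable {F : Type*} [Field F] [Fintype F] {n : ℕ}
variable {V : Type*} [AddCommGroup V] [Module ℂ V]

local notation "Mat" => Matrix (Fin n) (Fin n) F

/-- The character of a matrix on the symmetric matrices. -/
def chi (ψ : AddChar F ℂ) (B : Mat) : AddChar (symMat F n) ℂ :=
  ψ.compAddMonoidHom
    { toFun := fun S => Matrix.trace (B * (S : Mat))
      map_zero' := by simp
      map_add' := fun S T => by simp [Matrix.mul_add] }

theorem chi_apply (ψ : AddChar F ℂ) (B : Mat) (S : symMat F n) :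
    chi ψ B S = ψ (Matrix.trace (B * (S : Mat))) := rfl

/-- The symmetric matrix of rank at most one of a scalar and a vector. -/
def rk1 (c : F) (x : Fin n → F) : symMat F n :=
  ⟨c • vecMulVec x x, by show (_)ᵀ = _; rw [transpose_smul, transpose_vecMulVec]⟩

theorem rk1_apply (c : F) (x : Fin n → F) (r s : Fin n) : (rk1 c x : Mat) r s = c * (x r * x s) := rfl

theorem rk1_zero (c : F) : (rk1 c (0 : Fin n → F) : Mat) = 0 := by
  ext r s; simp [rk1_apply]

theorem rk1_smul (c t : F) (x : Fin n → F) : rk1 c (t • x) = rk1 (c * t ^ 2) x := by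
  refine Subtype.ext ?_
  ext r s
  simp [rk1_apply]
  ring

variable (ρ : Representation ℂ (SpG n F) V) (ψ : AddChar F ℂ)

/-- The weight space of a rank one matrix. -/
def W (c : F) (x : Fin n → F) : Submodule ℂ V := weightSpace ρ siegel (chi ψ (rk1 c x : Mat))

variable {ρ ψ}

theorem eq_zero_of_psi (hψ : ψ ≠ 0) {a : F} (h : ∀ t, ψ (t * a) = 1) : a = 0 := by
  by_contra ha
  obtain ⟨x, hx⟩ := AddChar.ne_zero_iff.1 hψ
  exact hx (by have := h (x / a); rwa [div_mul_cancel₀ _ ha] at this)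

theorem chi_inj (hodd : Odd (Fintype.card F)) (hψ : ψ ≠ 0) :
    Function.Injective fun B : symMat F n => chi ψ (B : Mat) := by
  classical
  have hs : Function.Surjective fun B : symMat F n => chi ψ (B : Mat) := fun χ => by
    obtain ⟨B, hB⟩ := exists_sym_char hodd hψ χ
    exact ⟨B, DFunLike.ext _ _ fun S => (hB S).symm⟩
  refine ((Nat.bijective_iff_surjective_and_card _).2 ⟨hs, ?_⟩).1
  cases nonempty_fintype (symMat F n)
  rw [Nat.card_eq_fintype_card, Nat.card_eq_fintype_card, AddChar.card_eq]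

theorem trace_rootS (B : Mat) (r : Fin n) (t : F) :
    Matrix.trace (B * (rootS r t : symMat F n).1) = t * B r r := by
  simp [rootS, Matrix.trace_mul_single, mul_comm]

theorem trace_symT (B : Mat) (r s : Fin n) (t : F) :
    Matrix.trace (B * (symT r s t : Mat)) = t * (B s r + B r s) := by
  simp [symT, Matrix.mul_add, Matrix.trace_mul_single, mul_comm, mul_add]

theorem mem_W {c : F} {x : Fin n → F} {v : V} :
    v ∈ W ρ ψ c x ↔ ∀ S : symMat F n,
      ρ (siegel S) v = ψ (Matrix.trace ((rk1 c x : Mat) * (S : Mat))) • v := mem_weightSpace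

theorem mem_W_zero {c : F} {v : V} : v ∈ W ρ ψ c 0 ↔ ∀ S : symMat F n, ρ (siegel S) v = v := by
  simp [mem_W, rk1_zero]

theorem W_zero_eq (c c' : F) : W ρ ψ c (0 : Fin n → F) = W ρ ψ c' 0 := by
  ext v; rw [mem_W_zero, mem_W_zero]

/-- The component of a character. -/
def pr (ρ : Representation ℂ (SpG n F) V) (χ : AddChar (symMat F n) ℂ) : V →ₗ[ℂ] V :=
  letI := Fintype.ofFinite (symMat F n)
  (Fintype.card (symMat F n) : ℂ)⁻¹ • ∑ b, χ (-b) • ρ (siegel b)

theorem pr_apply [Fintype (symMat F n)] (χ : AddChar (symMat F n) ℂ) (v : V) :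
    pr ρ χ v = (Fintype.card (symMat F n) : ℂ)⁻¹ • ∑ b, χ (-b) • ρ (siegel b) v := by
  have : ‹Fintype (symMat F n)› = Fintype.ofFinite (symMat F n) := Subsingleton.elim _ _
  subst this
  simp [pr, LinearMap.sum_apply]

theorem act_mul (a b : (SpG n F)) (v : V) : ρ a (ρ b v) = ρ (a * b) v := by
  rw [map_mul, Module.End.mul_apply]

theorem pr_mem (χ : AddChar (symMat F n) ℂ) (v : V) : pr ρ χ v ∈ weightSpace ρ siegel χ := by
  cases nonempty_fintype (symMat F n)
  intro c
  simp only [pr_apply, map_smul, map_sum, Finset.smul_sum, smul_smul, act_mul, ← siegel_add]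
  refine Fintype.sum_equiv (Equiv.addLeft c) _ _ fun b => ?_
  simp only [Equiv.coe_addLeft]
  congr 1
  rw [mul_left_comm (χ c), ← AddChar.map_add_eq_mul χ c]
  congr 2
  abel

theorem sum_pr (v : V) : ∑ᶠ χ, pr ρ χ v = v := by
  classical
  cases nonempty_fintype (symMat F n)
  rw [finsum_eq_sum_of_fintype]
  have hq0 : (Fintype.card (symMat F n) : ℂ) ≠ 0 := Nat.cast_ne_zero.2 Fintype.card_ne_zero
  simp only [pr_apply, ← Finset.smul_sum]
  rw [Finset.sum_comm]
  simp only [← Finset.sum_smul, AddChar.sum_apply_eq_ite, neg_eq_zero]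
  rw [Finset.sum_eq_single 0 (fun b _ hb => by simp [hb]) (by simp)]
  simp [u_zero (u := (siegel : symMat F n → (SpG n F))) siegel_add, smul_smul, inv_mul_cancel₀ hq0]

theorem pr_of_mem [DecidableEq (AddChar (symMat F n) ℂ)] {χ χ' : AddChar (symMat F n) ℂ} {v : V}
    (hv : v ∈ weightSpace ρ siegel χ') : pr ρ χ v = if χ = χ' then v else 0 := by
  classical
  cases nonempty_fintype (symMat F n)
  rw [pr_apply]
  simp only [mem_weightSpace.1 hv, smul_smul, ← Finset.sum_smul]
  have e : ∀ b, χ (-b) * χ' b = (χ' - χ) b := fun b => by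
    rw [AddChar.sub_apply, AddChar.map_neg_eq_inv, mul_comm]
  simp only [e, AddChar.sum_eq_ite, sub_eq_zero]
  by_cases h : χ = χ'
  · rw [if_pos h, if_pos h.symm, inv_mul_cancel₀ (Nat.cast_ne_zero.2 Fintype.card_ne_zero), one_smul]
  · rw [if_neg h, if_neg (Ne.symm h), mul_zero, zero_smul]

/-- An eigenvector of a Siegel element has its components among the compatible characters. -/
theorem pr_eigen {χ : AddChar (symMat F n) ℂ} {v : V} {S : symMat F n} {a : ℂ}
    (h : ρ (siegel S) v = a • v) (hne : pr ρ χ v ≠ 0) : χ S = a := by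
  cases nonempty_fintype (symMat F n)
  have e : pr ρ χ (ρ (siegel S) v) = ρ (siegel S) (pr ρ χ v) := by
    simp only [pr_apply, map_smul, map_sum, act_mul, ← siegel_add, add_comm]
  rw [h, map_smul, mem_weightSpace.1 (pr_mem χ v) S] at e
  exact (smul_left_injective ℂ hne e).symm

/-- A Levi element moves a weight. -/
theorem levi_wt (A : GL (Fin n) F) {c : F} {x : Fin n → F} {v : V} (hv : v ∈ W ρ ψ c x) :
    ρ (levi A) v ∈ W ρ ψ c (((A⁻¹ : GL (Fin n) F) : Mat)ᵀ *ᵥ x) := by
  rw [mem_W]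
  intro S
  have e := levi_siegel A (congS ((A⁻¹ : GL (Fin n) F) : Mat) S)
  have e' : congS (A : Mat) (congS ((A⁻¹ : GL (Fin n) F) : Mat) S) = S := by
    refine Subtype.ext ?_
    show (A : Mat) * (((A⁻¹ : GL (Fin n) F) : Mat) * (S : Mat) * ((A⁻¹ : GL (Fin n) F) : Mat)ᵀ) * (A : Mat)ᵀ = _
    rw [Matrix.mul_assoc, Matrix.mul_assoc, Matrix.mul_assoc, CfsgLib.MinDeg.gl_transpose_mul_inv A,
      Matrix.mul_one, ← Matrix.mul_assoc, Units.mul_inv, Matrix.one_mul]
  rw [e'] at e
  rw [act_mul, ← e, ← act_mul, mem_W.1 hv, map_smul]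
  congr 2
  show Matrix.trace ((c • vecMulVec x x) * (((A⁻¹ : GL (Fin n) F) : Mat) * (S : Mat) * ((A⁻¹ : GL (Fin n) F) : Mat)ᵀ)) = _
  show _ = Matrix.trace ((c • vecMulVec _ _) * (S : Mat))
  rw [Matrix.smul_mul, Matrix.smul_mul, Matrix.trace_smul, Matrix.trace_smul, ← Matrix.mul_assoc,
    ← Matrix.mul_assoc, Matrix.trace_mul_comm, ← Matrix.mul_assoc, ← Matrix.mul_assoc,
    Matrix.mul_vecMulVec, Matrix.vecMulVec_mul]
  congr 4
  rw [← Matrix.mulVec_transpose]

theorem tv_act {p q : Fin n} (h : p ≠ q) (t : F) (x : Fin n → F) :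
    (((tv p q h t)⁻¹ : GL (Fin n) F) : Mat)ᵀ *ᵥ x = x + Pi.single q (-(t * x p)) := by
  rw [tv_inv_coe, Matrix.transvection, Matrix.transpose_add, Matrix.transpose_one, Matrix.transpose_single,
    Matrix.add_mulVec, Matrix.one_mulVec, Matrix.single_mulVec]
  funext r
  by_cases hr : r = q
  · subst hr; simp
  · simp [hr]

theorem dg_act (d : Fin n → Fˣ) (x : Fin n → F) :
    (((dg d)⁻¹ : GL (Fin n) F) : Mat)ᵀ *ᵥ x = fun r => x r / (d r : F) := by
  funext r
  rw [dg_inv_coe, Matrix.diagonal_transpose, Matrix.mulVec_diagonal, Units.val_inv_eq_inv_val, div_eq_inv_mul]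

/-- All weights have rank at most one. -/
def RankOne (ρ : Representation ℂ (SpG n F) V) (ψ : AddChar F ℂ) : Prop :=
  ∀ χ, weightSpace ρ siegel χ ≠ ⊥ → ∃ (c : F) (x : Fin n → F), χ = chi ψ (rk1 c x : Mat)

variable (hodd : Odd (Fintype.card F)) (hψ : ψ ≠ 0) (hR : RankOne ρ ψ)
include hodd hψ hR

/-- The possible components of a translate by a Fourier element. -/
theorem fj_comp (j : Fin n) {c : F} {x : Fin n → F} {v : V} (hv : v ∈ W ρ ψ c x)
    {χ : AddChar (symMat F n) ℂ} (hne : pr ρ χ (ρ (fj j) v) ≠ 0) :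
    ∃ (d : F) (y : Fin n → F), χ = chi ψ (rk1 d y : Mat) ∧
      ∀ r s, r ≠ j → s ≠ j → d * (y r * y s) = c * (x r * x s) := by
  obtain ⟨d, y, rfl⟩ := hR χ fun e => hne (by
    have h := pr_mem (ρ := ρ) χ (ρ (fj j) v)
    rw [e, Submodule.mem_bot] at h
    exact h)
  refine ⟨d, y, rfl, fun r s hr hs => ?_⟩
  have key : ∀ S : symMat F n, (∀ i, (S : Mat) i j = 0) →
      ψ (Matrix.trace ((rk1 d y : Mat) * (S : Mat))) = ψ (Matrix.trace ((rk1 c x : Mat) * (S : Mat))) := by
    intro S hS
    refine pr_eigen (S := S) ?_ hne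
    rw [act_mul, ← fj_comm_siegel j S hS, ← act_mul, mem_W.1 hv, map_smul]
  refine sub_eq_zero.1 (eq_zero_of_psi hψ fun t => ?_)
  rw [mul_sub, sub_eq_add_neg, AddChar.map_add_eq_mul, AddChar.map_neg_eq_inv]
  suffices h : ψ (t * (d * (y r * y s))) = ψ (t * (c * (x r * x s))) by
    rw [h, mul_inv_cancel₀ (ψ.val_isUnit _).ne_zero]
  by_cases hrs : r = s
  · subst hrs
    have := key (rootS r t) fun i => by simp [rootS, hr]
    rwa [trace_rootS, trace_rootS, rk1_apply, rk1_apply] at this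
  · have := key (symT r s (t / 2)) fun i => by simp [symT, hr, hs]
    have h2 := two_ne_zero_of_odd hodd
    rw [trace_symT, trace_symT, rk1_apply, rk1_apply, rk1_apply, rk1_apply] at this
    convert this using 2 <;> field_simp <;> ring

/-- Transvections fix the weight vectors which they do not move. -/
theorem tv_fix {p q : Fin n} (h : p ≠ q) (t : F) {c : F} {x : Fin n → F} (hx : x p = 0) {v : V}
    (hv : v ∈ W ρ ψ c x) : ρ (levi (tv p q h t)) v = v := by
  have hg : levi (tv p q h t) = fj q * siegel (symT p q t) * (fj q)⁻¹ := by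
    rw [fj_mul_symT h, mul_inv_cancel_right]
  have hsq : ((fj q)⁻¹ : (SpG n F)) = fj q * levi (dg (Function.update 1 q (-1))) := by
    have h1 : fj q * fj q = (levi (dg (Function.update 1 q (-1))) : (SpG n F)) := fj_sq q
    have h2 : (levi (dg (Function.update 1 q (-1))) : (SpG n F)) * levi (dg (Function.update 1 q (-1))) = 1 := by
      rw [← levi_mul, ← levi_one]
      congr 1
      refine Units.ext ?_
      rw [Units.val_mul, dg_coe, Matrix.diagonal_mul_diagonal, Units.val_one, ← Matrix.diagonal_one]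
      congr 1
      funext i
      by_cases hi : i = q <;> simp [hi, Function.update_of_ne]
    rw [inv_eq_iff_mul_eq_one, ← mul_assoc, h1, h2]
  have hfix : ∀ u, ρ (fj q)⁻¹ v = u → ρ (siegel (symT p q t)) u = u := by
    rintro u rfl
    rw [hsq, ← act_mul]
    set v' := ρ (levi (dg (Function.update 1 q (-1)))) v
    have hv' := levi_wt (dg (Function.update 1 q (-1))) hv
    conv_lhs => rw [← sum_pr (ρ := ρ) (ρ (fj q) v')]
    conv_rhs => rw [← sum_pr (ρ := ρ) (ρ (fj q) v')]
    cases nonempty_fintype (AddChar (symMat F n) ℂ)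
    rw [finsum_eq_sum_of_fintype, map_sum]
    refine Finset.sum_congr rfl fun χ _ => ?_
    by_cases hne : pr ρ χ (ρ (fj q) v') = 0
    · rw [hne, map_zero]
    obtain ⟨d, y, rfl, hy⟩ := fj_comp hodd hψ hR q hv' hne
    rw [mem_weightSpace.1 (pr_mem _ _), chi_apply, trace_symT, rk1_apply, rk1_apply]
    have h0 := hy p p h h
    rw [dg_act] at h0
    simp only [hx, zero_div, mul_zero, mul_eq_zero, or_self] at h0
    rcases h0 with h0 | h0 <;> simp [h0]
  rw [hg, ← act_mul, ← act_mul, hfix _ rfl, act_mul, mul_inv_cancel, map_one, Module.End.one_apply]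

/-- The Fourier element and the torus of the second coordinate act by scalars on the multiplicity space. -/
theorem fourier {i j : Fin n} (hij : i ≠ j) {c : F} (hc : c ≠ 0) :
    ∃ τ : ℂ, (∀ v ∈ W ρ ψ c (Pi.single i 1),
      ρ (fj j) v = τ • ∑ s : F, ρ (levi (tv i j hij (-s))) v) ∧
      (∀ v ∈ W ρ ψ c (Pi.single i 1), v ≠ 0 → τ ≠ 0) ∧
      ∀ b : Fˣ, ∃ κ : ℂ, ∀ v ∈ W ρ ψ c (Pi.single i 1),
        ρ (levi (dg (Function.update 1 j b))) v = κ • v := by
  classical
  have h2 := two_ne_zero_of_odd hodd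
  set e : Fin n → F := Pi.single i 1 with he
  let pt : F → (Fin n → F) := fun s => e + Pi.single j s
  have hpt0 : pt 0 = e := by simp [pt]
  have hptj : ∀ s, pt s j = s := fun s => by simp [pt, he, hij.symm]
  have hpti : ∀ s, pt s i = 1 := fun s => by simp [pt, he, hij]
  have hinj : ∀ s s', chi ψ (rk1 c (pt s) : Mat) = chi ψ (rk1 c (pt s') : Mat) → s = s' := fun s s' h => by
    have := congrArg (fun B : symMat F n => (B : Mat) i j) (chi_inj hodd hψ h)
    simpa [rk1_apply, hpti, hptj, hc] using this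
  have hu : ∀ s r, ∀ v ∈ W ρ ψ c (pt r), ρ (levi (tv i j hij (-s))) v ∈ W ρ ψ c (pt (r + s)) := fun s r v hv => by
    have := levi_wt (tv i j hij (-s)) hv
    rwa [tv_act, hpti, mul_one, neg_neg, show pt r + Pi.single j s = pt (r + s) by
      simp [pt, Pi.single_add, add_assoc]] at this
  let T : V → V := fun v => pr ρ (chi ψ (rk1 c (pt 0) : Mat)) (ρ (fj j) v)
  have hTmem : ∀ v, T v ∈ W ρ ψ c e := fun v => by
    have := pr_mem (ρ := ρ) (chi ψ (rk1 c (pt 0) : Mat)) (ρ (fj j) v)
    rw [← hpt0]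
    exact this
  have hpr : ∀ {r : F} {v : V}, v ∈ W ρ ψ c (pt r) → ∀ s,
      pr ρ (chi ψ (rk1 c (pt s) : Mat)) v = if s = r then v else 0 := fun {r v} hv s => by
    rw [pr_of_mem hv]
    by_cases hs : s = r
    · subst hs; simp
    · rw [if_neg hs, if_neg fun h => hs (hinj _ _ h)]
  -- the first formula
  have hF : ∀ v ∈ W ρ ψ c e, ρ (fj j) v = ∑ s : F, ρ (levi (tv i j hij (-s))) (T v) := by
    intro v hv
    cases nonempty_fintype (AddChar (symMat F n) ℂ)
    have hsupp : ∀ χ, pr ρ χ (ρ (fj j) v) ≠ 0 → ∃ s, χ = chi ψ (rk1 c (pt s) : Mat) := fun χ hne => by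
      obtain ⟨d, y, rfl, hy⟩ := fj_comp hodd hψ hR j hv hne
      have hi := hy i i hij hij
      simp [he] at hi
      have hd : d ≠ 0 := fun h0 => hc (by rw [← hi, h0, zero_mul])
      have hyi : y i ≠ 0 := fun h0 => hc (by rw [← hi, h0]; ring)
      have hyr : ∀ r, r ≠ i → r ≠ j → y r = 0 := fun r hri hrj => by
        have := hy r r hrj hrj
        simpa [he, hri, hd] using this
      refine ⟨y j / y i, congrArg (fun B : symMat F n => chi ψ (B : Mat)) ?_⟩
      have ey : y = y i • pt (y j / y i) := by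
        funext r
        by_cases hri : r = i
        · subst hri; simp [hpti]
        by_cases hrj : r = j
        · subst hrj; simp [hptj]; field_simp
        · simp [pt, he, hri, hrj, hyr r hri hrj]
      conv_lhs => rw [ey, rk1_smul]
      congr 1
      rw [← hi]
      ring
    have hdec : ρ (fj j) v = ∑ s : F, pr ρ (chi ψ (rk1 c (pt s) : Mat)) (ρ (fj j) v) := by
      conv_lhs => rw [← sum_pr (ρ := ρ) (ρ (fj j) v), finsum_eq_sum_of_fintype]
      rw [← Finset.sum_image (f := fun χ => pr ρ χ (ρ (fj j) v)) (fun s _ s' _ h => hinj s s' h)]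
      refine (Finset.sum_subset (Finset.subset_univ _) fun χ _ hχ => ?_).symm
      by_contra hne
      obtain ⟨s, rfl⟩ := hsupp χ hne
      exact hχ (Finset.mem_image_of_mem _ (Finset.mem_univ s))
    have hfix : ∀ t, ρ (levi (tv i j hij t)) (ρ (fj j) v) = ρ (fj j) v := fun t => by
      rw [act_mul, ← fj_mul_symT hij, ← act_mul, mem_W.1 hv, trace_symT, rk1_apply, rk1_apply]
      simp [he, hij.symm]
    conv_lhs => rw [hdec]
    refine Finset.sum_congr rfl fun s _ => ?_
    conv_lhs => rw [← hfix (-s), hdec, map_sum, map_sum]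
    rw [Finset.sum_eq_single (0 : F) (fun t _ ht => ?_) (by simp)]
    · rw [hpr (hu s 0 _ (pr_mem _ _)), if_pos (zero_add s).symm]
    · rw [hpr (hu s t _ (pr_mem _ _)), if_neg]
      simpa using ht
  have hS2 : ∀ t r, ∀ v ∈ W ρ ψ c (pt r), ρ (siegel (symT i j t)) v = ψ (c * (2 * t * r)) • v := fun t r v hv => by
    rw [mem_W.1 hv, trace_symT, rk1_apply, rk1_apply, hpti, hptj]
    ring_nf
  have hS1 : ∀ b r, ∀ v ∈ W ρ ψ c (pt r), ρ (siegel (rootS j b)) v = ψ (c * (b * r ^ 2)) • v := fun b r v hv => by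
    rw [mem_W.1 hv, trace_rootS, rk1_apply, hptj]
    ring_nf
  have hu0 : ∀ s, ∀ v ∈ W ρ ψ c e, ρ (levi (tv i j hij (-s))) v ∈ W ρ ψ c (pt s) := fun s v hv => by
    simpa using hu s 0 v (by rwa [hpt0])
  have hFu : ∀ s, ∀ v ∈ W ρ ψ c e, ρ (fj j) (ρ (levi (tv i j hij (-s))) v) =
      ∑ r : F, ψ (c * (2 * s * r)) • ρ (levi (tv i j hij (-r))) (T v) := fun s v hv => by
    rw [act_mul, fj_mul_tv hij, neg_neg, ← act_mul, hF v hv, map_sum]
    exact Finset.sum_congr rfl fun r _ => hS2 s r _ (hu0 r _ (hTmem v))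
  let g : F → ℂ := fun b => ∑ r : F, ψ (c * (b * r ^ 2))
  have hpr0 : ∀ (a : F → ℂ) (v : V), v ∈ W ρ ψ c e →
      pr ρ (chi ψ (rk1 c (pt 0) : Mat)) (∑ r : F, a r • ρ (levi (tv i j hij (-r))) v) = a 0 • v := fun a v hv => by
    rw [map_sum, Finset.sum_eq_single (0 : F) (fun r _ hr => by
      rw [map_smul, hpr (hu0 r _ hv), if_neg (Ne.symm hr), smul_zero]) (by simp), map_smul, hpr (hu0 0 _ hv), if_pos rfl]
    congr 1
    have : tv i j hij (-(0 : F)) = 1 := Units.ext (by simp [tv_coe, Matrix.transvection_zero])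
    rw [this, levi_one, map_one, Module.End.one_apply]
  have hDmem : ∀ b : Fˣ, ∀ v ∈ W ρ ψ c e, ρ (levi (dg (Function.update 1 j b))) v ∈ W ρ ψ c (pt 0) := fun b v hv => by
    have := levi_wt (dg (Function.update 1 j b)) hv
    rw [dg_act] at this
    rw [hpt0]
    convert this using 2
    funext r
    by_cases hr : r = j <;> simp [hr, he, hij.symm, Function.update_of_ne]
  -- the braid relation
  have hbraid : ∀ b : Fˣ, ∀ v ∈ W ρ ψ c e,
      ρ (levi (dg (Function.update 1 j b))) v = ((Fintype.card F : ℂ) * g b) • T (T (T v)) := by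
    intro b v hv
    have e1 := congrArg (pr ρ (chi ψ (rk1 c (pt 0) : Mat)))
      (congrArg (fun g : (SpG n F) => ρ g v) (braid (F := F) j b))
    simp only [hpr (hDmem b v hv), if_pos] at e1
    rw [← e1]
    simp only [← act_mul, hF v hv, map_sum, map_smul]
    have h1 : ∀ r, ρ (siegel (rootS j (b : F))) (ρ (levi (tv i j hij (-r))) (T v)) =
        ψ (c * ((b : F) * r ^ 2)) • ρ (levi (tv i j hij (-r))) (T v) := fun r => hS1 _ r _ (hu0 r _ (hTmem v))
    have h3 : ∀ s, ρ (siegel (rootS j ((b⁻¹ : Fˣ) : F))) (ρ (levi (tv i j hij (-s))) (T (T v))) =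
        ψ (c * (((b⁻¹ : Fˣ) : F) * s ^ 2)) • ρ (levi (tv i j hij (-s))) (T (T v)) :=
      fun s => hS1 _ s _ (hu0 s _ (hTmem _))
    have h5 : ∀ z, ρ (siegel (rootS j (b : F))) (ρ (levi (tv i j hij (-z))) (T (T (T v)))) =
        ψ (c * ((b : F) * z ^ 2)) • ρ (levi (tv i j hij (-z))) (T (T (T v))) :=
      fun z => hS1 _ z _ (hu0 z _ (hTmem _))
    simp only [h1, map_smul, hFu _ _ (hTmem v), map_sum, h3, hFu _ _ (hTmem (T v)), h5, Finset.smul_sum,
      smul_smul]
    have hz : ∀ z, pr ρ (chi ψ (rk1 c (pt 0) : Mat)) (ρ (levi (tv i j hij (-z))) (T (T (T v)))) =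
        if z = 0 then T (T (T v)) else 0 := fun z => by
      have := hpr0 (fun r => if r = z then 1 else 0) _ (hTmem (T (T v)))
      simpa [ite_smul, eq_comm] using this
    simp only [hz, smul_ite, smul_zero, Finset.sum_ite_eq', Finset.mem_univ, if_true, ← Finset.sum_smul]
    congr 1
    have hb : (b : F) ≠ 0 := b.ne_zero
    simp only [mul_zero, zero_pow two_ne_zero, AddChar.map_zero_eq_one, mul_one, ← AddChar.map_add_eq_mul,
      Units.val_inv_eq_inv_val]
    rw [Finset.sum_comm]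
    have hs : ∀ s : F, ∑ r : F, ψ (c * ((b : F) * r ^ 2) + c * (2 * r * s) + c * ((b : F)⁻¹ * s ^ 2)) = g b :=
      fun s => Fintype.sum_equiv (Equiv.addRight (s / b)) _ _ fun r => by
        simp only [Equiv.coe_addRight]
        congr 1
        field_simp
        ring
    simp only [hs, Finset.sum_const, Finset.card_univ, nsmul_eq_mul]
  have hsqT : ∀ v ∈ W ρ ψ c e,
      ρ (levi (dg (Function.update 1 j (-1)))) v = (Fintype.card F : ℂ) • T (T v) := by
    intro v hv
    have e1 := congrArg (pr ρ (chi ψ (rk1 c (pt 0) : Mat)))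
      (congrArg (fun g : (SpG n F) => ρ g v) (fj_sq (F := F) j))
    simp only [hpr (hDmem (-1) v hv), if_pos] at e1
    rw [← e1]
    simp only [← act_mul, hF v hv, map_sum, hFu _ _ (hTmem v)]
    simp only [← map_sum]
    rw [Finset.sum_comm]
    simp only [← Finset.sum_smul]
    rw [hpr0 _ _ (hTmem (T v))]
    simp
  have hone : ∀ v ∈ W ρ ψ c e, ((Fintype.card F : ℂ) * g 1) • T (T (T v)) = v := fun v hv => by
    have := hbraid 1 v hv
    rw [Units.val_one, Function.update_eq_self_iff.2 (by simp), show dg (1 : Fin n → Fˣ) = 1 from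
      Units.ext (by simp [dg_coe]), levi_one, map_one, Module.End.one_apply] at this
    exact this.symm
  have hlin : ∀ (a : ℂ) (u v : V), T (u - a • v) = T u - a • T v := fun a u v => by
    simp [T, map_sub, map_smul]
  have hTτ : ∀ v ∈ W ρ ψ c e, g (-1) • T v = v := by
    intro v hv
    set u := v - g (-1) • T v with hu'
    have hum : u ∈ W ρ ψ c e := sub_mem hv (Submodule.smul_mem _ _ (hTmem v))
    have h0 : T (T u) = 0 := by
      have e1 := hbraid (-1) v hv
      rw [hsqT v hv, Units.val_neg, Units.val_one, mul_smul] at e1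
      have e2 := smul_right_injective V (Nat.cast_ne_zero.2 Fintype.card_ne_zero) e1
      rw [hu', hlin, hlin, sub_eq_zero]
      exact e2
    have h00 := hone u hum
    rw [h0, show T (0 : V) = 0 by simp [T], smul_zero] at h00
    exact (sub_eq_zero.1 h00.symm).symm
  refine ⟨(g (-1))⁻¹, fun v hv => ?_, fun v hv hv0 h => ?_, fun b => ?_⟩
  · rcases eq_or_ne v 0 with rfl | hv0
    · simp
    have hg : g (-1) ≠ 0 := fun h => hv0 (by rw [← hTτ v hv, h, zero_smul])
    rw [hF v hv, Finset.smul_sum]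
    refine Finset.sum_congr rfl fun s _ => ?_
    conv_rhs => rw [← hTτ v hv]
    rw [map_smul, smul_smul, inv_mul_cancel₀ hg, one_smul]
  · rw [inv_eq_zero] at h
    exact hv0 (by rw [← hTτ v hv, h, zero_smul])
  · refine ⟨(Fintype.card F : ℂ) * g b * ((g (-1))⁻¹ * ((g (-1))⁻¹ * (g (-1))⁻¹)), fun v hv => ?_⟩
    rcases eq_or_ne v 0 with rfl | hv0
    · simp
    have hg : g (-1) ≠ 0 := fun h => hv0 (by rw [← hTτ v hv, h, zero_smul])
    have hT : ∀ u ∈ W ρ ψ c e, T u = (g (-1))⁻¹ • u := fun u hu => by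
      conv_rhs => rw [← hTτ u hu]
      rw [smul_smul, inv_mul_cancel₀ hg, one_smul]
    rw [hbraid b v hv, hT _ (hTmem (T v)), hT _ (hTmem v), hT v hv, smul_smul, smul_smul, smul_smul]
    congr 1
    ring

end CfsgLib.KnownB.SpWeil
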